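import Cfsg.Agent.Components.Layer
import Mathlib.GroupTheory.PGroup

/-!
# The solvable radical and the generalized Fitting subgroup

* `solvRadical` with `le_solvRadical_of_isSubnormal`, `isSolvable_solvRadical`
* `le_inf_fittingSubgroup_of_isSolvable`: a solvable normal subgroup centralizing `F(G)` lies in it
* `layer_le_centralizer_fittingSubgroup`
* `centralizer_generalizedFitting_le`: `C(F*(G)) ≤ F*(G)`
* `generalizedFitting_eq_pCore`: criterion for `F*(G) = O_p(G)`
-/

namespace CfsgLib.Components

open Subgroup

variable {G : Type*} [Group G]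

/-! ### Auxiliary facts -/

/-- The image of a characteristic subgroup of `H` is normalized by `N_G(H)`. -/
theorem normalizer_le_normalizer_map_subtype (H : Subgroup G) (C : Subgroup H)
    [hC : C.Characteristic] :
    normalizer (H : Set G) ≤ normalizer ((C.map H.subtype : Subgroup G) : Set G) := by
  intro g hg
  rw [mem_normalizer_iff_map_conj_eq] at hg ⊢
  let e : H ≃* H :=
    (H.equivMapOfInjective (MulAut.conj g).toMonoidHom (MulAut.conj g).injective).trans
      (MulEquiv.subgroupCongr hg)
  have hcomp : H.subtype.comp e.toMonoidHom = (MulAut.conj g).toMonoidHom.comp H.subtype :=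
    MonoidHom.ext fun x => rfl
  change Subgroup.map (MulAut.conj g).toMonoidHom (C.map H.subtype) = C.map H.subtype
  rw [map_map, ← hcomp, ← map_map, characteristic_iff_map_eq.mp hC e]

theorem isSolvable_map {G' : Type*} [Group G'] (f : G →* G') {H : Subgroup G}
    (h : Group.IsSolvable H) : Group.IsSolvable (H.map f) :=
  Group.isSolvable_of_surjective (f.subgroupMap_surjective H)

theorem isSolvable_mono {H K : Subgroup G} (h : Group.IsSolvable K) (hle : H ≤ K) :
    Group.IsSolvable H :=
  Group.isSolvable_of_isSolvable_injective (inclusion_injective hle)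

theorem isSolvable_sup {A B : Subgroup G} (hA : Group.IsSolvable A) (hB : Group.IsSolvable B)
    (hn : B ≤ normalizer (A : Set G)) : Group.IsSolvable (A ⊔ B : Subgroup G) := by
  have : (A.subgroupOf (A ⊔ B)).Normal :=
    normal_subgroupOf_of_le_normalizer (sup_le le_normalizer hn)
  have hq : Group.IsSolvable ((A ⊔ B : Subgroup G) ⧸ A.subgroupOf (A ⊔ B)) := by
    refine Group.isSolvable_of_surjective
      (f := (QuotientGroup.mk' (A.subgroupOf (A ⊔ B))).comp (inclusion le_sup_right)) fun q => ?_
    obtain ⟨⟨x, hx⟩, rfl⟩ := QuotientGroup.mk'_surjective _ q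
    have hx' : x ∈ ((B ⊔ A : Subgroup G) : Set G) := by rw [sup_comm]; exact hx
    rw [coe_mul_of_left_le_normalizer_right B A hn] at hx'
    obtain ⟨b, hb, a, ha, rfl⟩ := hx'
    refine ⟨⟨b, hb⟩, ?_⟩
    refine QuotientGroup.eq.mpr ?_
    rw [mem_subgroupOf]
    simpa using ha
  refine Group.isSolvable_of_ker_le_range (inclusion (le_sup_left (b := B)))
    (QuotientGroup.mk' (A.subgroupOf (A ⊔ B))) ?_
  rw [QuotientGroup.ker_mk']
  exact fun x hx => ⟨⟨x, hx⟩, Subtype.ext rfl⟩

theorem isSolvable_sSup_of_normal [Finite G] {S : Set (Subgroup G)}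
    (hS : ∀ N ∈ S, N.Normal ∧ Group.IsSolvable N) : Group.IsSolvable (sSup S : Subgroup G) := by
  induction S, Set.toFinite S using Set.Finite.induction_on with
  | empty =>
    rw [sSup_empty]
    infer_instance
  | @insert N S _ _ ih =>
    rw [sSup_insert]
    have hN := hS N (Set.mem_insert _ _)
    have := hN.1
    exact isSolvable_sup hN.2 (ih fun M hM => hS M (Set.mem_insert_of_mem _ hM))
      le_normalizer_of_normal

/-! ### The solvable radical -/

/-- The join of the solvable normal subgroups of `G`. -/
def solvRadical (G : Type*) [Group G] : Subgroup G :=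
  sSup {N : Subgroup G | N.Normal ∧ Group.IsSolvable N}

theorem le_solvRadical {N : Subgroup G} [N.Normal] (h : Group.IsSolvable N) :
    N ≤ solvRadical G :=
  le_sSup ⟨inferInstance, h⟩

instance solvRadical_normal : (solvRadical G).Normal :=
  Subgroup.sSup_normal _ fun _ h => h.1

instance solvRadical_characteristic : (solvRadical G).Characteristic := by
  refine characteristic_iff_map_le.mpr fun e => ?_
  rw [map_le_iff_le_comap]
  refine sSup_le fun N ⟨hN, hs⟩ => ?_
  rw [← map_le_iff_le_comap]
  have := Normal.map hN e.toMonoidHom e.surjective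
  exact le_solvRadical (isSolvable_map _ hs)

theorem isSolvable_solvRadical [Finite G] : Group.IsSolvable (solvRadical G) :=
  isSolvable_sSup_of_normal fun _ h => h

theorem solvRadical_map_subtype_le [Finite G] {H : Subgroup G} (hH : H.IsSubnormal) :
    (solvRadical H).map H.subtype ≤ solvRadical G := by
  induction hH with
  | top =>
    have : ((solvRadical (⊤ : Subgroup G)).map (⊤ : Subgroup G).subtype).Normal :=
      normalizer_eq_top_iff.mp (top_unique (le_trans (normalizer_eq_top (⊤ : Subgroup G)).ge
        (normalizer_le_normalizer_map_subtype _ _)))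
    exact le_solvRadical (isSolvable_map _ isSolvable_solvRadical)
  | step H K hle hK hn ih =>
    let R := (solvRadical H).map H.subtype
    have hRK : R ≤ K := (map_subtype_le _).trans hle
    have hRn : (R.subgroupOf K).Normal := normal_subgroupOf_of_le_normalizer
      (((normal_subgroupOf_iff_le_normalizer hle).mp hn).trans
        (normalizer_le_normalizer_map_subtype _ _))
    have hs : Group.IsSolvable (R.subgroupOf K) :=
      have := isSolvable_map H.subtype (isSolvable_solvRadical (G := H))
      Group.isSolvable_of_surjective (f := (subgroupOfEquivOfLe hRK).symm.toMonoidHom)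
        (MulEquiv.surjective _)
    have := map_mono (f := K.subtype) (le_solvRadical hs)
    rw [map_subgroupOf_eq_of_le hRK] at this
    exact this.trans ih

theorem le_solvRadical_of_isSubnormal [Finite G] {H : Subgroup G} (hH : H.IsSubnormal)
    (hs : Group.IsSolvable H) : H ≤ solvRadical G := by
  refine le_trans ?_ (solvRadical_map_subtype_le hH)
  have ht : Group.IsSolvable (⊤ : Subgroup H) :=
    Group.isSolvable_of_surjective (f := topEquiv.symm.toMonoidHom) (MulEquiv.surjective _)
  rw [top_unique (le_solvRadical ht), ← MonoidHom.range_eq_map, range_subtype]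

/-! ### The generalized Fitting subgroup -/

theorem le_fittingSubgroup {N : Subgroup G} [N.Normal] (h : Group.IsNilpotent N) :
    N ≤ Cfsg.fittingSubgroup G :=
  le_sSup ⟨inferInstance, h⟩

instance fittingSubgroup_normal : (Cfsg.fittingSubgroup G).Normal :=
  Subgroup.sSup_normal _ fun _ h => h.1

theorem isNilpotent_of_commutator_commutator_eq_bot {A : Subgroup G} (h : ⁅⁅A, A⁆, A⁆ = ⊥) :
    Group.IsNilpotent A := by
  refine ⟨2, ?_⟩
  rw [eq_top_iff]
  intro x _
  rw [Subgroup.mem_upperCentralSeries_succ_iff]
  intro y
  rw [Subgroup.upperCentralSeries_one, mem_center_iff]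
  intro z
  apply Subtype.ext
  have := mem_centralizer_iff.mp ((commutator_eq_bot_iff_le_centralizer.mp h)
    (commutator_mem_commutator x.2 y.2)) z z.2
  simpa [commutatorElement_def, mul_assoc] using this

/-- A solvable normal subgroup that centralizes `F(G)` lies in `F(G)`. -/
theorem le_fittingSubgroup_of_isSolvable {R : Subgroup G} [R.Normal] (hs : Group.IsSolvable R)
    (hc : R ≤ centralizer (Cfsg.fittingSubgroup G : Set G)) : R ≤ Cfsg.fittingSubgroup G := by
  obtain ⟨n, hn⟩ := hs.solvable
  suffices key : ∀ m, ∀ X : Subgroup G, X.Normal → X ≤ R →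
      X ≤ (derivedSeries R (n - m)).map R.subtype → X ≤ Cfsg.fittingSubgroup G by
    refine key n R inferInstance le_rfl ?_
    simp [derivedSeries_zero, ← MonoidHom.range_eq_map]
  intro m
  induction m with
  | zero =>
    intro X _ _ h
    rw [Nat.sub_zero, hn, Subgroup.map_bot] at h
    exact h.trans bot_le
  | succ m ih =>
    intro X hX hXR h
    by_cases hnm : n ≤ m
    · exact ih X hX hXR (by rwa [show n - m = n - (m + 1) by omega])
    · have h2 : ⁅X, X⁆ ≤ (derivedSeries R (n - m)).map R.subtype := by
        rw [show n - m = (n - (m + 1)) + 1 by omega, derivedSeries_succ, map_commutator]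
        exact commutator_mono h h
      have h1 : ⁅X, X⁆ ≤ Cfsg.fittingSubgroup G :=
        ih _ (commutator_normal X X) ((commutator_le_left X X).trans hXR) h2
      refine le_fittingSubgroup (isNilpotent_of_commutator_commutator_eq_bot ?_)
      refine eq_bot_iff.mpr ((commutator_mono h1 (hXR.trans hc)).trans ?_)
      rw [commutator_comm, commutator_eq_bot_iff_le_centralizer.mpr le_rfl]

theorem layer_le_centralizer_fittingSubgroup :
    Cfsg.layer G ≤ centralizer (Cfsg.fittingSubgroup G : Set G) := by
  rw [← commutator_eq_bot_iff_le_centralizer, commutator_comm,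
    commutator_eq_bot_iff_le_centralizer]
  refine sSup_le fun N ⟨hN, hnil⟩ => ?_
  rw [← commutator_eq_bot_iff_le_centralizer, commutator_comm]
  exact commutator_layer_eq_bot_of_isSolvable inferInstance le_normalizer_of_normal

/-- `C_G(F*(G)) ≤ F*(G)`. -/
theorem centralizer_generalizedFitting_le [Finite G] :
    centralizer (Cfsg.generalizedFittingSubgroup G : Set G) ≤ Cfsg.fittingSubgroup G := by
  have : (Cfsg.generalizedFittingSubgroup G).Normal := sup_normal _ _
  let C := centralizer (Cfsg.generalizedFittingSubgroup G : Set G)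
  have hC : C.Normal := normal_centralizer
  have hCF : C ≤ centralizer (Cfsg.fittingSubgroup G : Set G) :=
    centralizer_le (SetLike.coe_subset_coe.mpr le_sup_right)
  have hR : solvRadical G ⊓ C ≤ Cfsg.fittingSubgroup G :=
    le_fittingSubgroup_of_isSolvable (isSolvable_mono isSolvable_solvRadical inf_le_left)
      (inf_le_right.trans hCF)
  by_cases hs : Group.IsSolvable C
  · exact le_trans (le_inf (le_solvRadical hs) le_rfl) hR
  exfalso
  obtain ⟨M, ⟨hMC, hMsn, hMs⟩, hmin⟩ := wellFounded_lt.has_min
    {M : Subgroup G | M ≤ C ∧ M.IsSubnormal ∧ ¬ Group.IsSolvable M}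
    ⟨C, le_rfl, hC.isSubnormal, hs⟩
  have hsub : ∀ N : Subgroup M, N.Normal → N ≠ ⊤ → Group.IsSolvable N := by
    intro N hN hne
    by_contra h
    refine hmin (N.map M.subtype) ⟨(map_subtype_le N).trans hMC, hN.isSubnormal.trans' hMsn,
      fun h' => h ?_⟩ (lt_of_le_of_ne (map_subtype_le N) fun e => hne ?_)
    · exact Group.isSolvable_of_isSolvable_injective
        (f := (N.equivMapOfInjective M.subtype M.subtype_injective).toMonoidHom)
        (MulEquiv.injective _)
    · rw [← map_subtype_inj, e, ← MonoidHom.range_eq_map, range_subtype]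
  have hperf : ⁅(⊤ : Subgroup M), (⊤ : Subgroup M)⁆ = ⊤ := by
    by_contra h
    refine hMs ?_
    have hd : Group.IsSolvable (⁅(⊤ : Subgroup M), (⊤ : Subgroup M)⁆ : Subgroup M) :=
      hsub _ inferInstance h
    refine Group.isSolvable_of_ker_le_range (commutator M).subtype Abelianization.of ?_ (hG' := hd)
    rw [Abelianization.ker_of, range_subtype]
  have hcent : ∀ N : Subgroup M, N.Normal → N ≠ ⊤ → N ≤ center M := by
    intro N hN hne x hx
    have h1 : (x : G) ∈ solvRadical G ⊓ C :=
      ⟨le_solvRadical_of_isSubnormal (hN.isSubnormal.trans' hMsn)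
        (isSolvable_map _ (hsub N hN hne)) (mem_map_of_mem _ hx), hMC x.2⟩
    refine mem_center_iff.mpr fun y => Subtype.ext ?_
    exact (mem_centralizer_iff.mp (hCF (hMC y.2)) x (hR h1)).symm
  have : Nontrivial M := by
    by_contra h
    rw [not_nontrivial_iff_subsingleton] at h
    exact hMs inferInstance
  have hcomp : Cfsg.IsComponent M := ⟨hMsn, isQuasisimple_of_normal_le_center hperf hcent⟩
  exact IsComponent.not_commute hcomp (commutator_eq_bot_iff_le_centralizer.mpr
    (hMC.trans (centralizer_le (SetLike.coe_subset_coe.mpr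
      ((IsComponent.le_layer hcomp).trans le_sup_left)))))

theorem centralizer_generalizedFitting_le_self [Finite G] :
    centralizer (Cfsg.generalizedFittingSubgroup G : Set G) ≤
      Cfsg.generalizedFittingSubgroup G :=
  centralizer_generalizedFitting_le.trans le_sup_right

/-! ### The criterion for `F*(G) = O_p(G)` -/

theorem isPGroup_sSup_of_normal [Finite G] {p : ℕ} {S : Set (Subgroup G)}
    (hS : ∀ N ∈ S, N.Normal ∧ IsPGroup p N) : IsPGroup p (sSup S : Subgroup G) := by
  induction S, Set.toFinite S using Set.Finite.induction_on with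
  | empty =>
    rw [sSup_empty]
    exact IsPGroup.of_bot
  | @insert N S _ _ ih =>
    rw [sSup_insert]
    have := (hS N (Set.mem_insert _ _)).1
    exact (hS N (Set.mem_insert _ _)).2.to_sup_of_normal_left
      (ih fun M hM => hS M (Set.mem_insert_of_mem _ hM))

theorem isPGroup_pCore [Finite G] (p : ℕ) : IsPGroup p (Cfsg.pCore p G) :=
  isPGroup_sSup_of_normal fun _ h => h

theorem le_pCore {p : ℕ} {N : Subgroup G} [N.Normal] (h : IsPGroup p N) : N ≤ Cfsg.pCore p G :=
  le_sSup ⟨inferInstance, h⟩

theorem pCore_le_fittingSubgroup [Finite G] (p : ℕ) [Fact p.Prime] :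
    Cfsg.pCore p G ≤ Cfsg.fittingSubgroup G :=
  le_fittingSubgroup (isPGroup_pCore p).isNilpotent

/-- If `G` has neither components nor nontrivial normal subgroups of prime order power for primes
other than `p`, then `F*(G) = O_p(G)`. -/
theorem generalizedFitting_eq_pCore [Finite G] (p : ℕ) [Fact p.Prime]
    (hL : Cfsg.layer G = ⊥)
    (h : ∀ N : Subgroup G, N.Normal → (Nat.card N).Coprime p → N = ⊥) :
    Cfsg.generalizedFittingSubgroup G = Cfsg.pCore p G := by
  refine le_antisymm ?_ ((pCore_le_fittingSubgroup p).trans le_sup_right)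
  rw [Cfsg.generalizedFittingSubgroup, hL, bot_sup_eq]
  refine sSup_le fun N ⟨hN, hnil⟩ => le_pCore ?_
  refine IsPGroup.of_card (n := (Nat.card N).primeFactorsList.length)
    (Nat.eq_prime_pow_of_unique_prime_dvd Nat.card_pos.ne' fun {q} hq hdvd => ?_)
  by_contra hqp
  have : Fact q.Prime := ⟨hq⟩
  obtain ⟨S⟩ : Nonempty (Sylow q N) := inferInstance
  have hSn : (S : Subgroup N).Normal := Sylow.normal_of_normalizerCondition
    Group.normalizerCondition_of_isNilpotent S
  have hSc : (S : Subgroup N).Characteristic := Sylow.characteristic_of_normal S hSn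
  have hb := h ((S : Subgroup N).map N.subtype) (normalizer_eq_top_iff.mp
    (top_unique ((normalizer_eq_top_iff.mpr hN).ge.trans
      (normalizer_le_normalizer_map_subtype _ _)))) (by
    rw [Subgroup.card_map_of_injective N.subtype_injective]
    obtain ⟨k, hk⟩ := S.2.exists_card_eq
    rw [hk]
    exact ((Nat.coprime_primes hq Fact.out).mpr hqp).pow_left k)
  exact S.ne_bot_of_dvd_card hdvd ((Subgroup.map_eq_bot_iff_of_injective _ N.subtype_injective).mp hb)

theorem layer_le_generalizedFitting : Cfsg.layer G ≤ Cfsg.generalizedFittingSubgroup G :=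
  le_sup_left

theorem fitting_le_generalizedFitting :
    Cfsg.fittingSubgroup G ≤ Cfsg.generalizedFittingSubgroup G :=
  le_sup_right

end CfsgLib.Components
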