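import Cfsg.Agent.Components.Layer
import Cfsg.Agent.PLocal.Cores

/-!
# p-components and the p-layer

`pElems p X` is the subgroup generated by the `p`-elements of `X` (`O^{p'}(X)` for finite `X`).
A `p`-component with image `K̄` in `G / O_{p'}(G)` is exactly `pElems p` of the preimage of `K̄`.

* `exists_unique_pComponent`, `map_pLayer_eq_layer`, `pLayer_eq_bot_iff`
* `IsPComponent.commutator_eq_self`, `IsPComponent.eq_top_of_coprime_index`
* `IsPComponent.pLayer_le_normalizer`, `IsPComponent.commutator_le_pPrimeCore`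
* `map_subtype_pPrimeCore_eq`: `O_{p'}(K) = K ⊓ O_{p'}(G)` for subnormal `K`
-/

namespace CfsgLib.Components

open Subgroup

variable {G : Type*} [Group G] {p : ℕ}

/-- The subgroup generated by the elements of `p`-power order of `X`. -/
def pElems (p : ℕ) (X : Subgroup G) : Subgroup G :=
  closure {x | x ∈ X ∧ ∃ k : ℕ, x ^ p ^ k = 1}

theorem pElems_le (X : Subgroup G) : pElems p X ≤ X :=
  (closure_le X).mpr fun _ h => h.1

theorem mem_pElems {X : Subgroup G} {x : G} (hx : x ∈ X) {k : ℕ} (h : x ^ p ^ k = 1) :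
    x ∈ pElems p X :=
  subset_closure ⟨hx, k, h⟩

theorem map_pElems_le {G' : Type*} [Group G'] (f : G →* G') (X : Subgroup G) :
    (pElems p X).map f ≤ pElems p (X.map f) := by
  rw [pElems, MonoidHom.map_closure]
  refine closure_mono ?_
  rintro _ ⟨x, ⟨hx, k, hk⟩, rfl⟩
  exact ⟨mem_map_of_mem f hx, k, by rw [← map_pow, hk, map_one]⟩

theorem normalizer_le_normalizer_pElems (X : Subgroup G) :
    normalizer (X : Set G) ≤ normalizer ((pElems p X : Subgroup G) : Set G) := by
  intro g hg
  rw [mem_normalizer_iff_map_conj_eq] at hg ⊢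
  have key : ∀ h : G, X.map (MulAut.conj h).toMonoidHom = X →
      (pElems p X).map (MulAut.conj h).toMonoidHom ≤ pElems p X := by
    intro h hh
    have := map_pElems_le (p := p) (MulAut.conj h).toMonoidHom X
    rwa [hh] at this
  refine le_antisymm (key g hg) ?_
  intro x hx
  have hg' : X.map (MulAut.conj g⁻¹).toMonoidHom = X :=
    mem_normalizer_iff_map_conj_eq.mp (inv_mem (mem_normalizer_iff_map_conj_eq.mpr hg))
  exact ⟨g⁻¹ * x * g, key g⁻¹ hg' ⟨x, hx, by simp⟩, by simp [mul_assoc]⟩

variable [Finite G] [Fact p.Prime]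

theorem pElems_map_eq {G' : Type*} [Group G'] (f : G →* G') (X : Subgroup G) :
    (pElems p X).map f = pElems p (X.map f) := by
  refine le_antisymm (map_pElems_le f X) ((closure_le _).mpr ?_)
  rintro _ ⟨⟨x, hx, rfl⟩, k, hk⟩
  obtain ⟨a, m, hm, hxm⟩ :=
    Nat.exists_eq_pow_mul_and_not_dvd (orderOf_pos x).ne' p (Fact.out : p.Prime).ne_one
  have hy : x ^ m ∈ pElems p X := mem_pElems (X.pow_mem hx m) (k := a) (by
    rw [← pow_mul, mul_comm, ← hxm, pow_orderOf_eq_one])
  have hcop : m.Coprime (orderOf (f x)) := by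
    obtain ⟨j, -, hj⟩ := (Nat.dvd_prime_pow Fact.out).mp (orderOf_dvd_of_pow_eq_one hk)
    rw [hj]
    exact (((Fact.out : p.Prime).coprime_iff_not_dvd.mpr hm).symm).pow_right j
  obtain ⟨j, hj⟩ := exists_pow_eq_self_of_coprime hcop
  exact ⟨(x ^ m) ^ j, pow_mem hy j, by rw [map_pow, map_pow, hj]⟩

theorem mem_of_isSubnormal_of_mem_sup {H : Subgroup G} (hH : H.IsSubnormal) {N : Subgroup G}
    [N.Normal] (hN : (Nat.card N).Coprime p) {x : G} {k : ℕ} (hk : x ^ p ^ k = 1)
    (hx : x ∈ H ⊔ N) : x ∈ H := by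
  induction hH with
  | top => exact mem_top x
  | step H K hle hK hn ih =>
    have hxK : x ∈ K := ih (sup_le_sup_right hle N hx)
    have := hn
    obtain ⟨h, hh, n, hnN, rfl⟩ := mem_sup_of_normal_right.mp hx
    have hnK : n ∈ K := by simpa using mul_mem (inv_mem (hle hh)) hxK
    let q : K →* K ⧸ H.subgroupOf K := QuotientGroup.mk' _
    have e : q ⟨h * n, hxK⟩ = q ⟨n, hnK⟩ := by
      rw [show (⟨h * n, hxK⟩ : K) = ⟨h, hle hh⟩ * ⟨n, hnK⟩ from rfl, map_mul,
        show q ⟨h, hle hh⟩ = 1 from (QuotientGroup.eq_one_iff _).mpr hh, one_mul]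
    have h1 : orderOf (q ⟨h * n, hxK⟩) ∣ p ^ k :=
      orderOf_dvd_of_pow_eq_one (by
        rw [← map_pow, show (⟨h * n, hxK⟩ : K) ^ p ^ k = 1 from Subtype.ext hk, map_one])
    have h2 : orderOf (q ⟨h * n, hxK⟩) ∣ Nat.card N := by
      rw [e]
      refine (orderOf_map_dvd q _).trans ?_
      rw [Subgroup.orderOf_mk]
      exact Subgroup.orderOf_dvd_natCard N hnN
    have h3 := Nat.eq_one_of_dvd_coprimes (hN.pow_right k) h2 h1
    rw [orderOf_eq_one_iff] at h3
    exact (QuotientGroup.eq_one_iff (⟨h * n, hxK⟩ : K)).mp h3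

theorem pElems_le_of_isSubnormal {H : Subgroup G} (hH : H.IsSubnormal) {N X : Subgroup G}
    [N.Normal] (hN : (Nat.card N).Coprime p) (hX : X ≤ H ⊔ N) : pElems p X ≤ H :=
  (closure_le H).mpr fun _ ⟨hx, _, hk⟩ => mem_of_isSubnormal_of_mem_sup hH hN hk (hX hx)

/-- A quasisimple group of order divisible by `p` is generated by its `p`-elements. -/
theorem pElems_eq_self_of_isQuasisimple {K : Subgroup G} (hK : Cfsg.IsQuasisimple K)
    (hp : p ∣ Nat.card K) : pElems p K = K := by
  refine le_antisymm (pElems_le K) ?_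
  let D : Subgroup K := (pElems p K).subgroupOf K
  have : D.Normal := normal_subgroupOf_of_le_normalizer
    (le_normalizer.trans (normalizer_le_normalizer_pElems K))
  rcases IsQuasisimple.normal_eq_top_or_le_center hK D with h | h
  · exact subgroupOf_eq_top.mp h
  exfalso
  obtain ⟨P⟩ : Nonempty (Sylow p K) := inferInstance
  have hPc : (P : Subgroup K) ≤ center K := by
    intro x hx
    obtain ⟨k, hk⟩ := P.2 ⟨x, hx⟩
    exact h (mem_pElems x.2 (k := k) (congrArg (fun y : (P : Subgroup K) => ((y : K) : G)) hk))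
  have hPn : (P : Subgroup K).Normal :=
    ⟨fun x hx g => by rw [mem_center_iff.mp (hPc hx) g, mul_inv_cancel_right]; exact hx⟩
  obtain ⟨H, hH⟩ := Subgroup.exists_right_complement'_of_coprime
    (N := (P : Subgroup K)) P.card_coprime_index
  have hle : ⁅(⊤ : Subgroup K), (⊤ : Subgroup K)⁆ ≤ H := by
    have hsup : (P : Subgroup K) ⊔ H = ⊤ := hH.sup_eq_top
    refine commutator_le.mpr fun a _ b _ => ?_
    obtain ⟨z, hz, n, hn, rfl⟩ := mem_sup_of_normal_left.mp (hsup ▸ mem_top a)
    obtain ⟨w, hw, m, hm, rfl⟩ := mem_sup_of_normal_left.mp (hsup ▸ mem_top b)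
    rw [commutatorElement_mul_left_eq_conj_mul, commutatorElement_mul_right_eq_mul_conj,
      (show Commute n w from mem_center_iff.mp (hPc hw) n).commutator_eq,
      (show Commute z (w * m) from (mem_center_iff.mp (hPc hz) _).symm).commutator_eq,
      one_mul, mul_one]
    have hz' : ∀ y : K, z * y * z⁻¹ = y := fun y => by
      rw [← mem_center_iff.mp (hPc hz) y, mul_inv_cancel_right]
    have hw' : ∀ y : K, w * y * w⁻¹ = y := fun y => by
      rw [← mem_center_iff.mp (hPc hw) y, mul_inv_cancel_right]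
    rw [hw', hz', commutatorElement_def]
    exact mul_mem (mul_mem (mul_mem hn hm) (inv_mem hn)) (inv_mem hm)
  rw [IsQuasisimple.perfect hK, top_le_iff] at hle
  have hc := hH.card_mul_card
  rw [hle, Subgroup.card_top] at hc
  have h1 : Nat.card (P : Subgroup K) = 1 :=
    Nat.eq_of_mul_eq_mul_right Nat.card_pos (hc.trans (one_mul _).symm)
  exact (Fact.out : p.Prime).not_dvd_one (h1 ▸ P.dvd_card_of_dvd_card hp)

/-! ### p-components -/

local notation "π" => QuotientGroup.mk' (Cfsg.pPrimeCore p G)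

theorem dvd_card_of_isComponent_quotient {Kbar : Subgroup (G ⧸ Cfsg.pPrimeCore p G)}
    (hK : Cfsg.IsComponent Kbar) : p ∣ Nat.card Kbar := by
  by_contra h
  apply IsComponent.ne_bot hK
  rw [eq_bot_iff, ← CfsgLib.PLocal.pPrimeCore_quotient_pPrimeCore_eq_bot p G]
  exact CfsgLib.PLocal.le_pPrimeCore_of_isSubnormal hK.1 (CfsgLib.PLocal.not_dvd_iff_coprime.mpr h)

/-- The `p`-component lying over a component of `G / O_{p'}(G)`. -/
def pComponentOver (p : ℕ) (Kbar : Subgroup (G ⧸ Cfsg.pPrimeCore p G)) : Subgroup G :=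
  pElems p (Kbar.comap (QuotientGroup.mk' (Cfsg.pPrimeCore p G)))

theorem map_pComponentOver {Kbar : Subgroup (G ⧸ Cfsg.pPrimeCore p G)}
    (hK : Cfsg.IsComponent Kbar) : (pComponentOver p Kbar).map π = Kbar := by
  rw [pComponentOver, pElems_map_eq,
    map_comap_eq_self_of_surjective (QuotientGroup.mk'_surjective _),
    pElems_eq_self_of_isQuasisimple hK.2 (dvd_card_of_isComponent_quotient hK)]

theorem isSubnormal_pComponentOver {Kbar : Subgroup (G ⧸ Cfsg.pPrimeCore p G)}
    (hK : Cfsg.IsComponent Kbar) : (pComponentOver p Kbar).IsSubnormal :=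
  IsSubnormal.step _ _ (pElems_le _) (hK.1.comap π)
    (normal_subgroupOf_of_le_normalizer (le_normalizer.trans (normalizer_le_normalizer_pElems _)))

theorem pComponentOver_le {Kbar : Subgroup (G ⧸ Cfsg.pPrimeCore p G)} {H : Subgroup G}
    (hH : H.IsSubnormal) (hmap : Kbar ≤ H.map π) : pComponentOver p Kbar ≤ H := by
  refine pElems_le_of_isSubnormal hH (N := Cfsg.pPrimeCore p G)
    (CfsgLib.PLocal.coprime_card_pPrimeCore p G) ?_
  refine (comap_mono hmap).trans ?_
  rw [comap_map_eq, QuotientGroup.ker_mk']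

theorem isPComponent_pComponentOver {Kbar : Subgroup (G ⧸ Cfsg.pPrimeCore p G)}
    (hK : Cfsg.IsComponent Kbar) : Cfsg.IsPComponent p (pComponentOver p Kbar) := by
  refine ⟨isSubnormal_pComponentOver hK, by rwa [map_pComponentOver hK], fun H hH hle hmap => ?_⟩
  rw [map_pComponentOver hK] at hmap
  exact le_antisymm hle (pComponentOver_le hH hmap.ge)

theorem IsPComponent.eq_pComponentOver {K : Subgroup G} (hK : Cfsg.IsPComponent p K) :
    K = pComponentOver p (K.map π) :=
  (hK.2.2 _ (isSubnormal_pComponentOver hK.2.1) (pComponentOver_le hK.1 le_rfl)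
    (map_pComponentOver hK.2.1)).symm

theorem IsPComponent.eq_of_map_eq {K L : Subgroup G} (hK : Cfsg.IsPComponent p K)
    (hL : Cfsg.IsPComponent p L) (h : K.map π = L.map π) : K = L := by
  rw [IsPComponent.eq_pComponentOver hK, h, ← IsPComponent.eq_pComponentOver hL]

theorem exists_unique_pComponent {Kbar : Subgroup (G ⧸ Cfsg.pPrimeCore p G)}
    (hK : Cfsg.IsComponent Kbar) :
    ∃! K : Subgroup G, Cfsg.IsPComponent p K ∧ K.map π = Kbar :=
  ⟨_, ⟨isPComponent_pComponentOver hK, map_pComponentOver hK⟩, fun _ ⟨hL, hLm⟩ =>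
    IsPComponent.eq_of_map_eq hL (isPComponent_pComponentOver hK)
      (hLm.trans (map_pComponentOver hK).symm)⟩

theorem map_pLayer_eq_layer : (Cfsg.pLayer p G).map π = Cfsg.layer (G ⧸ Cfsg.pPrimeCore p G) := by
  refine le_antisymm ?_ (sSup_le fun Kbar hK => ?_)
  · rw [map_le_iff_le_comap]
    exact sSup_le fun K hK => map_le_iff_le_comap.mp (IsComponent.le_layer hK.2.1)
  · rw [← map_pComponentOver hK]
    exact map_mono (le_sSup (isPComponent_pComponentOver hK))

theorem pLayer_eq_bot_iff :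
    Cfsg.pLayer p G = ⊥ ↔ Cfsg.layer (G ⧸ Cfsg.pPrimeCore p G) = ⊥ := by
  refine ⟨fun h => by rw [← map_pLayer_eq_layer, h, Subgroup.map_bot], fun h => ?_⟩
  exact eq_bot_iff.mpr (sSup_le fun K hK => (layer_eq_bot_iff.mp h _ hK.2.1).elim)

/-- `O_{p'}(K) = K ⊓ O_{p'}(G)` for subnormal `K`. -/
theorem map_subtype_pPrimeCore_eq {K : Subgroup G} (hK : K.IsSubnormal) :
    (Cfsg.pPrimeCore p K).map K.subtype = K ⊓ Cfsg.pPrimeCore p G := by
  refine le_antisymm (le_inf (map_subtype_le _)
    (CfsgLib.PLocal.le_pPrimeCore_of_le_isSubnormal hK _ (map_subtype_le _) ?_ ?_)) ?_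
  · intro k hk
    rw [mem_normalizer_iff]
    intro x
    constructor
    · rintro ⟨y, hy, rfl⟩
      exact ⟨⟨k, hk⟩ * y * ⟨k, hk⟩⁻¹, Normal.conj_mem inferInstance y hy _, rfl⟩
    · rintro ⟨y, hy, hye⟩
      refine ⟨⟨k, hk⟩⁻¹ * y * ⟨k, hk⟩⁻¹⁻¹, Normal.conj_mem inferInstance y hy _, ?_⟩
      simp only [map_mul, map_inv, inv_inv, hye]
      simp [mul_assoc]
  · exact Nat.Coprime.coprime_dvd_left (card_map_dvd _ _)
      (CfsgLib.PLocal.coprime_card_pPrimeCore p K)
  · intro x hx
    exact ⟨⟨x, hx.1⟩, CfsgLib.PLocal.pPrimeCore_subgroupOf_le K hx.2, rfl⟩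

theorem IsPComponent.not_le_pPrimeCore {K : Subgroup G} (hK : Cfsg.IsPComponent p K) :
    ¬ K ≤ Cfsg.pPrimeCore p G := fun h =>
  IsComponent.ne_bot hK.2.1 (by rwa [Subgroup.map_eq_bot_iff, QuotientGroup.ker_mk'])

theorem IsPComponent.dvd_card {K : Subgroup G} (hK : Cfsg.IsPComponent p K) : p ∣ Nat.card K :=
  (dvd_card_of_isComponent_quotient hK.2.1).trans (card_map_dvd _ _)

theorem IsPComponent.commutator_eq_self {K : Subgroup G} (hK : Cfsg.IsPComponent p K) :
    ⁅K, K⁆ = K :=
  hK.2.2 _ (IsSubnormal.step _ _ ((commutator_le_sup K K).trans (sup_idem K).le) hK.1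
    (normal_subgroupOf_of_le_normalizer (normalizer_commutator_ge_left K K)))
    ((commutator_le_sup K K).trans (sup_idem K).le)
    (by rw [map_commutator, IsComponent.commutator_eq_self hK.2.1])

theorem IsPComponent.pElems_eq_self {K : Subgroup G} (hK : Cfsg.IsPComponent p K) :
    pElems p K = K := by
  refine le_antisymm (pElems_le K) ((closure_le _).mpr ?_ |> fun h =>
    (IsPComponent.eq_pComponentOver hK).le.trans h)
  rintro x ⟨hx, k, hk⟩
  exact mem_pElems (mem_of_isSubnormal_of_mem_sup hK.1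
    (CfsgLib.PLocal.coprime_card_pPrimeCore p G) hk
    (by rwa [comap_map_eq, QuotientGroup.ker_mk'] at hx)) hk

theorem IsPComponent.eq_top_of_coprime_index {K : Subgroup G} (hK : Cfsg.IsPComponent p K)
    (N : Subgroup K) [N.Normal] (h : N.index.Coprime p) : N = ⊤ := by
  rw [← map_subtype_inj, ← MonoidHom.range_eq_map, range_subtype]
  refine le_antisymm (map_subtype_le N)
    ((IsPComponent.pElems_eq_self hK).ge.trans ((closure_le _).mpr ?_))
  rintro x ⟨hx, k, hk⟩
  refine ⟨⟨x, hx⟩, (QuotientGroup.eq_one_iff _).mp (orderOf_eq_one_iff.mp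
    (Nat.eq_one_of_dvd_coprimes (h.pow_right k) (orderOf_dvd_natCard _) ?_)), rfl⟩
  exact orderOf_dvd_of_pow_eq_one (by
    rw [← QuotientGroup.mk_pow, show (⟨x, hx⟩ : K) ^ p ^ k = 1 from Subtype.ext hk]; rfl)

theorem IsPComponent.pLayer_le_normalizer {K : Subgroup G} (hK : Cfsg.IsPComponent p K) :
    Cfsg.pLayer p G ≤ normalizer (K : Set G) := by
  refine le_trans ?_ ((normalizer_le_normalizer_pElems (p := p) _).trans
    (le_of_eq (congrArg (fun H : Subgroup G => normalizer (H : Set G))
      (IsPComponent.eq_pComponentOver hK).symm)))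
  refine le_trans ?_ (le_normalizer_comap π)
  rw [← map_le_iff_le_comap, map_pLayer_eq_layer]
  exact IsComponent.normalized_by_layer hK.2.1

theorem IsPComponent.commutator_le_pPrimeCore {K L : Subgroup G} (hK : Cfsg.IsPComponent p K)
    (hL : Cfsg.IsPComponent p L) (hne : K ≠ L) :
    ⁅K, L⁆ ≤ (K ⊓ L) ⊓ Cfsg.pPrimeCore p G := by
  refine le_inf (le_inf ?_ ?_) ?_
  · exact le_normalizer_iff_commutator_le_left.mp
      ((le_sSup (show L ∈ {M : Subgroup G | Cfsg.IsPComponent p M} from hL)).trans (IsPComponent.pLayer_le_normalizer hK))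
  · exact le_normalizer_iff_commutator_le_right.mp
      ((le_sSup (show K ∈ {M : Subgroup G | Cfsg.IsPComponent p M} from hK)).trans (IsPComponent.pLayer_le_normalizer hL))
  · rw [← QuotientGroup.ker_mk' (Cfsg.pPrimeCore p G), ← Subgroup.map_eq_bot_iff, map_commutator]
    exact IsComponent.commutator_eq_bot_of_ne hK.2.1 hL.2.1
      fun h => hne (IsPComponent.eq_of_map_eq hK hL h)

theorem IsPComponent.eq_of_subnormal_perfect {K H : Subgroup G} (hK : Cfsg.IsPComponent p K)
    (hle : H ≤ K) (hH : H.IsSubnormal) (hperf : ⁅H, H⁆ = H) (hp : p ∣ Nat.card H) : H = K := by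
  refine hK.2.2 H hH hle ?_
  let Hb := H.map π
  let Kb := K.map π
  have hle' : Hb ≤ Kb := map_mono hle
  rcases IsQuasisimple.subnormal_eq_top_or_le_center hK.2.1.2 (Hb.subgroupOf Kb)
    (hH.quotient.subgroupOf) with h | h
  · exact le_antisymm hle' (subgroupOf_eq_top.mp h)
  exfalso
  have hc : ⁅Hb, Hb⁆ = ⊥ := by
    rw [commutator_eq_bot_iff_le_centralizer]
    intro a ha
    rw [mem_centralizer_iff]
    intro b hb
    have := mem_center_iff.mp (h (show (⟨b, hle' hb⟩ : Kb) ∈ Hb.subgroupOf Kb from hb))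
      ⟨a, hle' ha⟩
    exact (congrArg Subtype.val this).symm
  rw [← map_commutator, hperf, Subgroup.map_eq_bot_iff, QuotientGroup.ker_mk'] at hc
  exact (CfsgLib.PLocal.not_dvd_iff_coprime.mp
    (CfsgLib.PLocal.coprime_card_of_le hc (CfsgLib.PLocal.coprime_card_pPrimeCore p G))) hp

theorem IsPComponent.isComponent_iff {K : Subgroup G} (hK : Cfsg.IsPComponent p K) :
    Cfsg.IsQuasisimple K ↔ ⁅K, K ⊓ Cfsg.pPrimeCore p G⁆ = ⊥ := by
  constructor
  · intro hq
    refine (IsComponent.le_or_commutator_eq_bot_of_le_normalizer (X := K) ⟨hK.1, hq⟩ le_rfl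
      inf_le_left ((le_inf le_normalizer le_normalizer_of_normal).trans
        inf_normalizer_le_normalizer_inf)).resolve_left fun h => ?_
    exact IsPComponent.not_le_pPrimeCore hK (h.trans inf_le_right)
  · intro hc
    have : Nontrivial K := (nontrivial_iff_ne_bot K).mpr fun h =>
      IsPComponent.not_le_pPrimeCore hK (h ▸ bot_le)
    refine isQuasisimple_of_normal_le_center
      (Subgroup.isPerfect_iff.mpr (IsPComponent.commutator_eq_self hK)).commutator_eq_top
      fun N hN hne => ?_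
    let M := N.map K.subtype
    have hMsn : M.IsSubnormal := hN.isSubnormal.trans' hK.1
    rcases IsQuasisimple.subnormal_eq_top_or_le_center hK.2.1.2
      ((M.map π).subgroupOf (K.map π)) hMsn.quotient.subgroupOf with h | h
    · refine absurd ?_ hne
      rw [← map_subtype_inj, ← MonoidHom.range_eq_map, range_subtype]
      exact hK.2.2 M hMsn (map_subtype_le N)
        (le_antisymm (map_mono (map_subtype_le N)) (subgroupOf_eq_top.mp h))
    · have h1 : ⁅M, K⁆ ≤ K ⊓ Cfsg.pPrimeCore p G := by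
        refine le_inf ((commutator_mono (map_subtype_le N) le_rfl).trans
          ((commutator_le_sup K K).trans (sup_idem K).le)) ?_
        rw [← QuotientGroup.ker_mk' (Cfsg.pPrimeCore p G), ← Subgroup.map_eq_bot_iff,
          map_commutator, commutator_eq_bot_iff_le_centralizer]
        intro a ha
        rw [mem_centralizer_iff]
        intro b hb
        exact congrArg Subtype.val (mem_center_iff.mp
          (h (show (⟨a, map_mono (map_subtype_le N) ha⟩ : K.map π) ∈
            (M.map π).subgroupOf (K.map π) from ha)) ⟨b, hb⟩)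
      have h2 : ⁅⁅M, K⁆, K⁆ = ⊥ := eq_bot_iff.mpr ((commutator_mono h1 le_rfl).trans
        (by rw [commutator_comm, hc]))
      have h3 := commutator_commutator_eq_bot_of_rotate (H₁ := K) (H₂ := K) (H₃ := M)
        (by rw [commutator_comm K M]; exact h2) h2
      rw [IsPComponent.commutator_eq_self hK] at h3
      intro x hx
      refine mem_center_iff.mpr fun y => Subtype.ext ?_
      exact (mem_centralizer_iff.mp ((commutator_eq_bot_iff_le_centralizer.mp h3) y.2) x
        (mem_map_of_mem _ hx)).symm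

theorem IsPComponent.commutator_eq_bot_of_isQuasisimple {K L : Subgroup G}
    (hK : Cfsg.IsPComponent p K) (hL : Cfsg.IsPComponent p L) (hne : K ≠ L)
    (hq : Cfsg.IsQuasisimple K) : ⁅K, L⁆ = ⊥ := by
  refine (IsComponent.le_or_commutator_eq_bot (L := K) ⟨hK.1, hq⟩ hL.1).resolve_left fun h => ?_
  exact hne (IsPComponent.eq_of_map_eq hK hL (IsComponent.eq_of_le hK.2.1 hL.2.1 (map_mono h)))

/-- The quotient of a `p`-component by its `p'`-core is quasisimple. -/
theorem IsPComponent.isQuasisimple_quotient {K : Subgroup G} (hK : Cfsg.IsPComponent p K) :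
    Cfsg.IsQuasisimple (K ⧸ Cfsg.pPrimeCore p K) := by
  have hker : Cfsg.pPrimeCore p K = ((π).subgroupMap K).ker := by
    ext x
    rw [MonoidHom.mem_ker, ← Subtype.coe_inj]
    change _ ↔ π (x : G) = 1
    rw [QuotientGroup.mk'_apply, QuotientGroup.eq_one_iff,
      ← Subgroup.mem_map_iff_mem K.subtype_injective, map_subtype_pPrimeCore_eq hK.1]
    exact ⟨fun h => h.2, fun h => ⟨x.2, h⟩⟩
  exact isQuasisimple_congr
    ((QuotientGroup.quotientMulEquivOfEq hker).trans
      (QuotientGroup.quotientKerEquivOfSurjective _ ((π).subgroupMap_surjective K))).symm hK.2.1.2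

/-- The image of a component in `G / O_{p'}(G)` is trivial or a component. -/
theorem IsComponent.map_mk_eq_bot_or_isComponent {L : Subgroup G} (hL : Cfsg.IsComponent L) :
    L.map π = ⊥ ∨ Cfsg.IsComponent (L.map π) := by
  refine or_iff_not_imp_left.mpr fun hne => ⟨hL.1.quotient, ?_⟩
  have hperf : ⁅L.map π, L.map π⁆ = L.map π := by
    rw [← map_commutator, IsComponent.commutator_eq_self hL]
  have : Nontrivial (L.map π) := (nontrivial_iff_ne_bot _).mpr hne
  refine isQuasisimple_of_normal_le_center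
    (Subgroup.isPerfect_iff.mpr hperf).commutator_eq_top fun N hN hNne => ?_
  let f := (π).subgroupMap L
  rcases IsQuasisimple.normal_eq_top_or_le_center hL.2 (N.comap f) with h | h
  · refine absurd ?_ hNne
    rw [← map_comap_eq_self_of_surjective ((π).subgroupMap_surjective L) N, h,
      map_top_of_surjective _ ((π).subgroupMap_surjective L)]
  · intro x hx
    obtain ⟨y, rfl⟩ := (π).subgroupMap_surjective L x
    refine mem_center_iff.mpr fun z => ?_
    obtain ⟨z, rfl⟩ := (π).subgroupMap_surjective L z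
    rw [← map_mul, ← map_mul, mem_center_iff.mp (h hx) z]

theorem map_layer_eq_layer_quotient_iff :
    (Cfsg.layer G).map π = Cfsg.layer (G ⧸ Cfsg.pPrimeCore p G) ↔
      Cfsg.pLayer p G ≤ Cfsg.layer G := by
  constructor
  · intro h
    refine sSup_le fun K hK => ?_
    have h1 : K.map π ≤
        sSup {B | Cfsg.IsComponent B ∧ ∃ L : Subgroup G, Cfsg.IsComponent L ∧ L.map π = B} := by
      refine (IsComponent.le_layer hK.2.1).trans (h.ge.trans ?_)
      rw [map_le_iff_le_comap]
      refine sSup_le fun L hL => map_le_iff_le_comap.mp ?_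
      rcases IsComponent.map_mk_eq_bot_or_isComponent (p := p) hL with h' | h'
      · rw [h']; exact bot_le
      · exact le_sSup (show L.map π ∈ {B | _} from ⟨h', L, hL, rfl⟩)
    obtain ⟨-, L, hL, hLK⟩ := IsComponent.mem_of_le_sSup (fun _ hB => hB.1) hK.2.1 h1
    rw [IsPComponent.eq_pComponentOver hK]
    exact (pComponentOver_le hL.1 hLK.ge).trans (IsComponent.le_layer hL)
  · intro h
    refine le_antisymm ?_ (by rw [← map_pLayer_eq_layer]; exact map_mono h)
    rw [map_le_iff_le_comap]
    refine sSup_le fun L hL => map_le_iff_le_comap.mp ?_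
    rcases IsComponent.map_mk_eq_bot_or_isComponent (p := p) hL with h' | h'
    · rw [h']; exact bot_le
    · exact IsComponent.le_layer h'

end CfsgLib.Components
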