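import Cfsg.Prelude.Def_Local

/-!
# Quasisimple groups and components

Everything here works for arbitrary (not necessarily finite) groups.

* `IsQuasisimple.normal_eq_top_or_le_center`, `IsQuasisimple.subnormal_eq_top_or_le_center`
* `isQuasisimple_of_normal_le_center`: a criterion
* `isComponent_map_subtype`, `isComponent_subgroupOf`: components of subnormal subgroups
* `le_or_commutator_eq_bot`: a component lies in or commutes with each subnormal subgroup
* `commutator_eq_bot_of_isSolvable`: a component centralizes each solvable subgroup it normalizes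
* `commutator_eq_bot_of_ne`: distinct components commute
-/

namespace CfsgLib.Components

open Subgroup

variable {G : Type*} [Group G]

/-! ### Quasisimple groups -/

section Quasisimple

variable (hX : Cfsg.IsQuasisimple G)
include hX

theorem IsQuasisimple.perfect : ⁅(⊤ : Subgroup G), (⊤ : Subgroup G)⁆ = ⊤ :=
  hX.1.commutator_eq_top

theorem IsQuasisimple.center_ne_top : center G ≠ ⊤ := by
  have := hX.2.toNontrivial
  exact QuotientGroup.nontrivial_iff.mp this

theorem IsQuasisimple.nontrivial : Nontrivial G := by
  by_contra h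
  rw [not_nontrivial_iff_subsingleton] at h
  exact IsQuasisimple.center_ne_top hX (Subsingleton.elim _ _)

theorem IsQuasisimple.not_isMulCommutative : ¬ IsMulCommutative G := by
  intro h
  exact IsQuasisimple.center_ne_top hX (center_eq_top_iff.mpr h)

theorem IsQuasisimple.not_isSolvable : ¬ Group.IsSolvable G := by
  have := IsQuasisimple.nontrivial hX
  have := hX.1
  exact Group.IsPerfect.not_isSolvable G

theorem IsQuasisimple.normal_eq_top_or_le_center (N : Subgroup G) [N.Normal] :
    N = ⊤ ∨ N ≤ center G := by
  have := hX.2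
  have hn : (N.map (QuotientGroup.mk' (center G))).Normal :=
    Normal.map inferInstance _ (QuotientGroup.mk'_surjective _)
  rcases hn.eq_bot_or_eq_top with h | h
  · right
    rwa [Subgroup.map_eq_bot_iff, QuotientGroup.ker_mk'] at h
  · left
    have hsup : N ⊔ center G = ⊤ := by
      have := congrArg (comap (QuotientGroup.mk' (center G))) h
      rwa [comap_map_eq, QuotientGroup.ker_mk', comap_top] at this
    refine top_unique ?_
    calc (⊤ : Subgroup G) = ⁅(⊤ : Subgroup G), (⊤ : Subgroup G)⁆ :=
          (IsQuasisimple.perfect hX).symm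
      _ ≤ N := by
          rw [commutator_le]
          intro a _ b _
          obtain ⟨n, hnm, z, hz, rfl⟩ := mem_sup_of_normal_right.mp (hsup ▸ mem_top a)
          rw [← QuotientGroup.eq_one_iff, ← QuotientGroup.mk'_apply N, map_commutatorElement,
            commutatorElement_eq_one_iff_mul_comm]
          have hn : QuotientGroup.mk' N n = 1 := (QuotientGroup.eq_one_iff n).mpr hnm
          rw [map_mul, hn, one_mul, ← map_mul, ← map_mul, mem_center_iff.mp hz b]

theorem IsQuasisimple.subnormal_eq_top_or_le_center (H : Subgroup G) (hH : H.IsSubnormal) :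
    H = ⊤ ∨ H ≤ center G := by
  rcases hH.lt_normal with h | ⟨K, hK, hle, hlt⟩
  · exact Or.inl h
  · exact Or.inr (hle.trans ((IsQuasisimple.normal_eq_top_or_le_center hX K).resolve_left hlt.ne))

end Quasisimple

theorem isQuasisimple_congr {H : Type*} [Group H] (e : G ≃* H) (hG : Cfsg.IsQuasisimple G) :
    Cfsg.IsQuasisimple H := by
  have := hG.1
  have := hG.2
  refine ⟨Group.IsPerfect.ofSurjective (f := e.toMonoidHom) e.surjective, ?_⟩
  have hc : (center G).map e.toMonoidHom = center H := by
    ext x
    constructor
    · rintro ⟨g, hg, rfl⟩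
      rw [SetLike.mem_coe, mem_center_iff] at hg
      rw [mem_center_iff]
      intro y
      obtain ⟨y, rfl⟩ := e.surjective y
      simp only [MulEquiv.coe_toMonoidHom, ← map_mul, hg y]
    · intro hx
      rw [mem_center_iff] at hx
      refine ⟨e.symm x, ?_, by simp⟩
      rw [SetLike.mem_coe, mem_center_iff]
      intro y
      apply e.injective
      simpa using hx (e y)
  exact (QuotientGroup.congr (center G) (center H) e hc).isSimpleGroup_congr.mp hG.2

theorem isQuasisimple_of_normal_le_center [Nontrivial G]
    (hp : ⁅(⊤ : Subgroup G), (⊤ : Subgroup G)⁆ = ⊤)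
    (h : ∀ N : Subgroup G, N.Normal → N ≠ ⊤ → N ≤ center G) : Cfsg.IsQuasisimple G := by
  have hP : Group.IsPerfect G := ⟨hp⟩
  have hz : center G ≠ ⊤ := fun hz =>
    Group.IsPerfect.not_isMulCommutative G (center_eq_top_iff.mp hz)
  have : Nontrivial (G ⧸ center G) := QuotientGroup.nontrivial_iff.mpr hz
  refine ⟨hP, ⟨fun H hH => ?_⟩⟩
  by_cases hc : H.comap (QuotientGroup.mk' (center G)) = ⊤
  · right
    rw [← map_comap_eq_self_of_surjective (QuotientGroup.mk'_surjective (center G)) H, hc,
      map_top_of_surjective _ (QuotientGroup.mk'_surjective (center G))]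
  · left
    rw [← map_comap_eq_self_of_surjective (QuotientGroup.mk'_surjective (center G)) H,
      eq_bot_iff, map_le_iff_le_comap]
    refine (h _ inferInstance hc).trans ?_
    intro x hx
    rw [mem_comap, mem_bot]
    exact (QuotientGroup.eq_one_iff x).mpr hx

/-! ### Components -/

theorem IsComponent.commutator_eq_self {L : Subgroup G} (hL : Cfsg.IsComponent L) : ⁅L, L⁆ = L :=
  Subgroup.isPerfect_iff.mp hL.2.1

theorem IsComponent.not_isSolvable {L : Subgroup G} (hL : Cfsg.IsComponent L) :
    ¬ Group.IsSolvable L :=
  IsQuasisimple.not_isSolvable hL.2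

theorem IsComponent.not_commute {L : Subgroup G} (hL : Cfsg.IsComponent L) :
    ⁅L, L⁆ ≠ ⊥ := fun h =>
  IsQuasisimple.not_isMulCommutative hL.2 (commutator_self_eq_bot_iff.mp h)

theorem IsComponent.ne_bot {L : Subgroup G} (hL : Cfsg.IsComponent L) : L ≠ ⊥ := by
  rintro rfl
  exact IsComponent.not_commute hL (commutator_bot_left _)

/-- Components of a subnormal subgroup `H` are components of `G`. -/
theorem isComponent_map_subtype {H : Subgroup G} (hH : H.IsSubnormal) (K : Subgroup H) :
    Cfsg.IsComponent K ↔ Cfsg.IsComponent (K.map H.subtype) := by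
  let e : K ≃* K.map H.subtype := K.equivMapOfInjective H.subtype H.subtype_injective
  constructor
  · exact fun h => ⟨h.1.trans' hH, isQuasisimple_congr e h.2⟩
  · intro h
    refine ⟨?_, isQuasisimple_congr e.symm h.2⟩
    have := h.1.comap H.subtype
    rwa [comap_map_eq_self_of_injective H.subtype_injective] at this

theorem IsComponent.subgroupOf {L H : Subgroup G} (hL : Cfsg.IsComponent L) (hle : L ≤ H) :
    Cfsg.IsComponent (L.subgroupOf H) :=
  ⟨hL.1.subgroupOf, isQuasisimple_congr (Subgroup.subgroupOfEquivOfLe hle).symm hL.2⟩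

theorem isComponent_subgroupOf {L H : Subgroup G} (hH : H.IsSubnormal) (hle : L ≤ H) :
    Cfsg.IsComponent (L.subgroupOf H) ↔ Cfsg.IsComponent L := by
  rw [isComponent_map_subtype hH, map_subgroupOf_eq_of_le hle]

/-- The image of a component under an isomorphism is a component. -/
theorem IsComponent.map_equiv {G' : Type*} [Group G'] {L : Subgroup G} (hL : Cfsg.IsComponent L)
    (e : G ≃* G') : Cfsg.IsComponent (L.map e.toMonoidHom) :=
  ⟨hL.1.map e.surjective,
    isQuasisimple_congr (L.equivMapOfInjective e.toMonoidHom e.injective) hL.2⟩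

theorem IsComponent.conj {L : Subgroup G} (hL : Cfsg.IsComponent L) (g : G) :
    Cfsg.IsComponent (L.map (MulAut.conj g).toMonoidHom) :=
  IsComponent.map_equiv hL (MulAut.conj g)

/-- The key lemma: if every term of a subnormal chain above the component `L` normalizes `N`,
then `L` lies in `N` or centralizes it. -/
theorem IsComponent.le_or_commutator_eq_bot_of_le_normalizer {L N X : Subgroup G}
    (hL : Cfsg.IsComponent L) (hLX : L ≤ X) (hNX : N ≤ X)
    (hXN : X ≤ normalizer (N : Set G)) : L ≤ N ∨ ⁅L, N⁆ = ⊥ := by
  obtain ⟨n, f, hmono, hnor, h0, hn⟩ :=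
    (hL.1.subgroupOf (K := X)).exists_chain
  suffices key : ∀ i, ∀ M : Subgroup G, (f i).map X.subtype ≤ normalizer (M : Set G) →
      M ≤ (f i).map X.subtype → L ≤ M ∨ ⁅L, M⁆ = ⊥ by
    refine key n N ?_ ?_
    · rw [hn, ← MonoidHom.range_eq_map, range_subtype]; exact hXN
    · rw [hn, ← MonoidHom.range_eq_map, range_subtype]; exact hNX
  intro i
  induction i with
  | zero =>
    intro M hM hML
    rw [h0, map_subgroupOf_eq_of_le hLX] at hM hML
    have : (M.subgroupOf L).Normal := normal_subgroupOf_of_le_normalizer hM
    rcases IsQuasisimple.normal_eq_top_or_le_center hL.2 (M.subgroupOf L) with h | h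
    · exact Or.inl (subgroupOf_eq_top.mp h)
    · right
      rw [commutator_eq_bot_iff_le_centralizer]
      intro l hl
      rw [mem_centralizer_iff]
      intro m hm
      have := mem_center_iff.mp (h (show (⟨m, hML hm⟩ : L) ∈ M.subgroupOf L from hm)) ⟨l, hl⟩
      exact (congrArg Subtype.val this).symm
  | succ i ih =>
    intro M hM hMF
    let F := (f i).map X.subtype
    let F' := (f (i + 1)).map X.subtype
    have hLF : L ≤ F := by
      refine le_trans ?_ (map_mono (hmono (Nat.zero_le i)))
      rw [h0, map_subgroupOf_eq_of_le hLX]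
    have hFF' : F ≤ F' := map_mono (hmono (Nat.le_succ i))
    have hF'F : F' ≤ normalizer (F : Set G) :=
      (map_mono ((normal_subgroupOf_iff_le_normalizer (hmono (Nat.le_succ i))).mp (hnor i))).trans
        (le_normalizer_map _)
    rcases ih (M ⊓ F) ((le_inf (hFF'.trans hM) le_normalizer).trans
        inf_normalizer_le_normalizer_inf) inf_le_right with h | h
    · exact Or.inl (h.trans inf_le_left)
    · right
      have h1 : ⁅L, M⁆ ≤ M ⊓ F := le_inf
        (le_normalizer_iff_commutator_le_right.mp ((hLF.trans hFF').trans hM))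
        ((commutator_mono hLF le_rfl).trans
          (le_normalizer_iff_commutator_le_left.mp (hMF.trans hF'F)))
      have h2 : ⁅⁅L, M⁆, L⁆ = ⊥ := by
        refine eq_bot_iff.mpr ((commutator_mono h1 le_rfl).trans ?_)
        rw [commutator_comm, h]
      have h3 : ⁅⁅M, L⁆, L⁆ = ⊥ := by rwa [commutator_comm M L]
      have h4 := commutator_commutator_eq_bot_of_rotate h2 h3
      rwa [IsComponent.commutator_eq_self hL] at h4

/-- A component lies in or centralizes each normal subgroup. -/
theorem IsComponent.le_or_commutator_eq_bot_of_normal {L : Subgroup G} (hL : Cfsg.IsComponent L)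
    (N : Subgroup G) [N.Normal] : L ≤ N ∨ ⁅L, N⁆ = ⊥ :=
  IsComponent.le_or_commutator_eq_bot_of_le_normalizer hL le_top le_top le_normalizer_of_normal

/-- A component lies in or centralizes each subnormal subgroup. -/
theorem IsComponent.le_or_commutator_eq_bot {L : Subgroup G} (hL : Cfsg.IsComponent L)
    {H : Subgroup G} (hH : H.IsSubnormal) : L ≤ H ∨ ⁅L, H⁆ = ⊥ := by
  induction hH with
  | top => exact Or.inl le_top
  | step H K hle hK hn ih =>
    rcases ih with h | h
    · exact IsComponent.le_or_commutator_eq_bot_of_le_normalizer hL h hle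
        ((normal_subgroupOf_iff_le_normalizer hle).mp hn)
    · exact Or.inr (eq_bot_iff.mpr ((commutator_mono le_rfl hle).trans h.le))

/-- A component centralizes every solvable subgroup it normalizes. -/
theorem IsComponent.commutator_eq_bot_of_isSolvable {L : Subgroup G} (hL : Cfsg.IsComponent L)
    {H : Subgroup G} (hs : Group.IsSolvable H) (hn : L ≤ normalizer (H : Set G)) : ⁅L, H⁆ = ⊥ := by
  refine (IsComponent.le_or_commutator_eq_bot_of_le_normalizer hL le_sup_left le_sup_right
    (sup_le hn le_normalizer)).resolve_left fun h => ?_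
  exact IsComponent.not_isSolvable hL
    (Group.isSolvable_of_isSolvable_injective (inclusion_injective h))

theorem IsComponent.eq_of_le {K L : Subgroup G} (hK : Cfsg.IsComponent K)
    (hL : Cfsg.IsComponent L) (h : K ≤ L) : K = L := by
  rcases IsQuasisimple.subnormal_eq_top_or_le_center hL.2 (K.subgroupOf L) hK.1.subgroupOf
    with h' | h'
  · exact le_antisymm h (subgroupOf_eq_top.mp h')
  · exfalso
    apply IsComponent.not_commute hK
    rw [commutator_eq_bot_iff_le_centralizer]
    intro a ha
    rw [mem_centralizer_iff]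
    intro b hb
    have := mem_center_iff.mp (h' (show (⟨b, h hb⟩ : L) ∈ K.subgroupOf L from hb)) ⟨a, h ha⟩
    exact (congrArg Subtype.val this).symm

/-- Two distinct components commute elementwise. -/
theorem IsComponent.commutator_eq_bot_of_ne {K L : Subgroup G} (hK : Cfsg.IsComponent K)
    (hL : Cfsg.IsComponent L) (h : K ≠ L) : ⁅K, L⁆ = ⊥ :=
  (IsComponent.le_or_commutator_eq_bot hK hL.1).resolve_left fun h' =>
    h (IsComponent.eq_of_le hK hL h')

end CfsgLib.Components
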