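import Cfsg.Agent.Components.Basic
import Mathlib.Data.Finite.Defs
import Mathlib.Data.Set.Finite.Lattice

/-!
# The layer

* `IsComponent.le_layer`, `layer_normal`, `layer_characteristic`
* `IsComponent.mem_of_le_sSup`: a component in the join of a set of components belongs to the set
* `layer_le_normalizer_sSup`: the layer normalizes the join of any set of components
* `map_center_sSup_components`: centre of a join of components
* `layer_commutator_self`: the layer is perfect
* `layer_map_subtype_le`: the layer of a subnormal subgroup
* `map_layer_equiv`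
-/

namespace CfsgLib.Components

open Subgroup
open scoped Pointwise

variable {G : Type*} [Group G]

theorem IsComponent.le_layer {L : Subgroup G} (hL : Cfsg.IsComponent L) : L ≤ Cfsg.layer G :=
  le_sSup hL

theorem layer_eq_bot_iff : Cfsg.layer G = ⊥ ↔ ∀ L : Subgroup G, ¬ Cfsg.IsComponent L := by
  constructor
  · intro h L hL
    exact IsComponent.ne_bot hL (le_bot_iff.mp ((IsComponent.le_layer hL).trans h.le))
  · intro h
    exact eq_bot_iff.mpr (sSup_le fun L hL => (h L hL).elim)

theorem map_layer_equiv {G' : Type*} [Group G'] (e : G ≃* G') :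
    (Cfsg.layer G).map e.toMonoidHom = Cfsg.layer G' := by
  refine le_antisymm ?_ (sSup_le fun K hK => ?_)
  · rw [map_le_iff_le_comap]
    exact sSup_le fun K hK => map_le_iff_le_comap.mp
      (IsComponent.le_layer (IsComponent.map_equiv hK e))
  · have := map_mono (f := e.toMonoidHom) (IsComponent.le_layer (IsComponent.map_equiv hK e.symm))
    rwa [map_map, show e.toMonoidHom.comp e.symm.toMonoidHom = MonoidHom.id G' from
      MonoidHom.ext fun x => e.apply_symm_apply x, Subgroup.map_id] at this

instance layer_characteristic : (Cfsg.layer G).Characteristic :=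
  characteristic_iff_map_eq.mpr fun e => map_layer_equiv e

instance layer_normal : (Cfsg.layer G).Normal :=
  Subgroup.normal_of_characteristic _

/-- The join of a set of components centralizes every other component. -/
theorem sSup_le_centralizer_of_notMem {S : Set (Subgroup G)}
    (hS : ∀ K ∈ S, Cfsg.IsComponent K) {L : Subgroup G} (hL : Cfsg.IsComponent L) (h : L ∉ S) :
    sSup S ≤ centralizer (L : Set G) :=
  sSup_le fun K hK => commutator_eq_bot_iff_le_centralizer.mp
    (IsComponent.commutator_eq_bot_of_ne (hS K hK) hL fun e => h (e ▸ hK))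

theorem IsComponent.mem_of_le_sSup {S : Set (Subgroup G)} (hS : ∀ K ∈ S, Cfsg.IsComponent K)
    {L : Subgroup G} (hL : Cfsg.IsComponent L) (h : L ≤ sSup S) : L ∈ S := by
  by_contra hn
  exact IsComponent.not_commute hL (commutator_eq_bot_iff_le_centralizer.mpr
    (h.trans (sSup_le_centralizer_of_notMem hS hL hn)))

theorem layer_le_normalizer_sSup {S : Set (Subgroup G)} (hS : ∀ K ∈ S, Cfsg.IsComponent K) :
    Cfsg.layer G ≤ normalizer (sSup S : Subgroup G) := by
  refine sSup_le fun L hL => ?_
  by_cases h : L ∈ S
  · exact (le_sSup h).trans le_normalizer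
  · refine le_trans ?_ (centralizer_le_normalizer _)
    rw [← commutator_eq_bot_iff_le_centralizer, commutator_comm,
      commutator_eq_bot_iff_le_centralizer]
    exact sSup_le_centralizer_of_notMem hS hL h

theorem IsComponent.normalized_by_layer {L : Subgroup G} (hL : Cfsg.IsComponent L) :
    Cfsg.layer G ≤ normalizer (L : Set G) := by
  have := layer_le_normalizer_sSup (S := {L}) (by rintro K rfl; exact hL)
  rwa [sSup_singleton] at this

theorem map_subtype_center (H : Subgroup G) :
    (center H).map H.subtype = H ⊓ centralizer (H : Set G) := by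
  ext x
  constructor
  · rintro ⟨z, hz, rfl⟩
    refine ⟨z.2, fun h hh => ?_⟩
    exact congrArg Subtype.val (mem_center_iff.mp hz ⟨h, hh⟩)
  · rintro ⟨hx, hc⟩
    exact ⟨⟨x, hx⟩, mem_center_iff.mpr fun g => Subtype.ext (hc g g.2), rfl⟩

/-- The centre of the join of a finite set of components. -/
theorem sSup_inf_centralizer {S : Set (Subgroup G)} (hfin : S.Finite)
    (hS : ∀ K ∈ S, Cfsg.IsComponent K) :
    sSup S ⊓ centralizer ((sSup S : Subgroup G) : Set G) =
      ⨆ L ∈ S, L ⊓ centralizer (L : Set G) := by
  refine le_antisymm ?_ (iSup₂_le fun L hL => le_inf (inf_le_left.trans (le_sSup hL)) ?_)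
  · induction S, hfin using Set.Finite.induction_on with
    | empty => simp
    | @insert L S hLS _ ih =>
      have hS' : ∀ K ∈ S, Cfsg.IsComponent K := fun K hK => hS K (Set.mem_insert_of_mem _ hK)
      have hL : Cfsg.IsComponent L := hS L (Set.mem_insert _ _)
      have hc := sSup_le_centralizer_of_notMem hS' hL hLS
      rw [sSup_insert, iSup_insert]
      intro z hz
      obtain ⟨hz1, hz2⟩ := mem_inf.mp hz
      have hn : L ≤ normalizer ((sSup S : Subgroup G) : Set G) := by
        refine le_trans ?_ (centralizer_le_normalizer _)
        rw [← commutator_eq_bot_iff_le_centralizer, commutator_comm,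
          commutator_eq_bot_iff_le_centralizer]
        exact hc
      obtain ⟨l, hl, e, he, rfl⟩ : z ∈ (L : Set G) * ((sSup S : Subgroup G) : Set G) := by
        rw [← coe_mul_of_left_le_normalizer_right L (sSup S) hn]; exact hz1
      rw [mem_centralizer_iff] at hz2
      have hlc : l ∈ centralizer (L : Set G) := by
        rw [mem_centralizer_iff]
        intro m hm
        have h1 := hz2 m (mem_sup_left hm)
        have h2 : m * e = e * m := mem_centralizer_iff.mp (hc he) m hm
        calc m * l = m * (l * e) * e⁻¹ := by group
          _ = (l * e) * m * e⁻¹ := by rw [h1]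
          _ = l * (e * m) * e⁻¹ := by group
          _ = l * m := by rw [← h2]; group
      have hec : e ∈ centralizer ((sSup S : Subgroup G) : Set G) := by
        rw [mem_centralizer_iff]
        intro m hm
        have h1 := hz2 m (mem_sup_right hm)
        have h2 : l * m = m * l := mem_centralizer_iff.mp (hc hm) l hl
        calc m * e = l⁻¹ * (l * m) * e := by group
          _ = l⁻¹ * (m * (l * e)) := by rw [h2]; group
          _ = l⁻¹ * ((l * e) * m) := by rw [h1]
          _ = e * m := by group
      exact mul_mem (mem_sup_left ⟨hl, hlc⟩) (mem_sup_right (ih hS' ⟨he, hec⟩))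
  · rw [← commutator_eq_bot_iff_le_centralizer, commutator_comm,
      commutator_eq_bot_iff_le_centralizer]
    refine sSup_le fun K hK => ?_
    by_cases h : K = L
    · subst h
      rw [← commutator_eq_bot_iff_le_centralizer, commutator_comm,
        commutator_eq_bot_iff_le_centralizer]
      exact inf_le_right
    · rw [← commutator_eq_bot_iff_le_centralizer]
      exact eq_bot_iff.mpr ((commutator_mono le_rfl inf_le_left).trans
        (IsComponent.commutator_eq_bot_of_ne (hS K hK) (hS L hL) h).le)

theorem layer_inf_centralizer [Finite G] :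
    Cfsg.layer G ⊓ centralizer (Cfsg.layer G : Set G) =
      ⨆ L ∈ {K : Subgroup G | Cfsg.IsComponent K}, L ⊓ centralizer (L : Set G) :=
  sSup_inf_centralizer (Set.toFinite _) fun _ h => h

theorem layer_commutator_self : ⁅Cfsg.layer G, Cfsg.layer G⁆ = Cfsg.layer G := by
  refine le_antisymm ((commutator_le_sup _ _).trans (sup_idem _).le) (sSup_le fun L hL => ?_)
  calc L = ⁅L, L⁆ := (IsComponent.commutator_eq_self hL).symm
    _ ≤ _ := commutator_mono (IsComponent.le_layer hL) (IsComponent.le_layer hL)

theorem layer_map_subtype_le {H : Subgroup G} (hH : H.IsSubnormal) :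
    (Cfsg.layer H).map H.subtype ≤ Cfsg.layer G := by
  rw [map_le_iff_le_comap]
  exact sSup_le fun K hK => map_le_iff_le_comap.mp
    (IsComponent.le_layer ((isComponent_map_subtype hH K).mp hK))

theorem IsComponent.le_layer_map_subtype {L H : Subgroup G} (hL : Cfsg.IsComponent L)
    (hle : L ≤ H) : L ≤ (Cfsg.layer H).map H.subtype := by
  rw [← map_subgroupOf_eq_of_le hle]
  exact map_mono (IsComponent.le_layer (IsComponent.subgroupOf hL hle))

/-- A solvable subgroup normalized by the layer is centralized by it. -/
theorem commutator_layer_eq_bot_of_isSolvable {H : Subgroup G} (hs : Group.IsSolvable H)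
    (hn : Cfsg.layer G ≤ normalizer (H : Set G)) : ⁅Cfsg.layer G, H⁆ = ⊥ :=
  commutator_eq_bot_iff_le_centralizer.mpr <| sSup_le fun _ hL =>
    commutator_eq_bot_iff_le_centralizer.mp
      (IsComponent.commutator_eq_bot_of_isSolvable hL hs ((IsComponent.le_layer hL).trans hn))

end CfsgLib.Components
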