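import Cfsg.Agent.Components.FStar
import Cfsg.Agent.Components.PComponents
import Cfsg.Agent.PLocal.Constraint
import Cfsg.Agent.Coprime.PTimesQ
import Cfsg.Agent.Transfer.Residual

/-!
# Applications of the `A × B` lemma to `p`-local subgroups

* `le_centralizer_of_coprime`, `le_centralizer_of_perfect`: forms of the `P × Q` lemma
* `pPrimeCore_normalizer_le_centralizer`, `layer_normalizer_le_centralizer`,
  `pLayer_normalizer_le_centralizer`: these centralise every `O_p(G)`-like subgroup
* `le_pPrimeCore_of_le_centralizer`: balance in a `p`-constrained group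
* `generalizedFitting_normalizer_eq_pCore`: `F*(G) = O_p(G)` is inherited by `p`-locals
-/

namespace CfsgLib.Components

open Subgroup

variable {G : Type*} [Group G] [Finite G] {p : ℕ} [Fact p.Prime]

/-- A `p'`-subgroup `R` centralising the `p`-group `P` and normalised by `C_U(P)` centralises the
`p`-group `U`, if both `P` and `R` normalise `U`. -/
theorem le_centralizer_of_coprime {P R U : Subgroup G} (hP : IsPGroup p P)
    (hR : (Nat.card R).Coprime p) (hU : IsPGroup p U) (hRP : R ≤ centralizer (P : Set G))
    (hPU : P ≤ normalizer (U : Set G)) (hRU : R ≤ normalizer (U : Set G))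
    (hC : U ⊓ centralizer (P : Set G) ≤ normalizer (R : Set G)) :
    R ≤ centralizer (U : Set G) := by
  refine CfsgLib.Coprime.le_centralizer_of_inf_centralizer_le hP hR hU
    (le_centralizer_iff.mp hRP) hPU hRU ?_
  rw [← commutator_eq_bot_iff_le_centralizer, eq_bot_iff,
    ← CfsgLib.PLocal.disjoint_of_isPGroup_of_coprime hU hR]
  refine le_inf ?_ (le_normalizer_iff_commutator_le_right.mp hC)
  refine (commutator_mono inf_le_left le_rfl).trans ?_
  exact le_normalizer_iff_commutator_le_left.mp hRU

/-- A perfect subgroup `K` centralising the `p`-group `P` and `C_U(P)` centralises the `p`-group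
`U`, if both `P` and `K` normalise `U`. -/
theorem le_centralizer_of_perfect {P K U : Subgroup G} (hP : IsPGroup p P) (hU : IsPGroup p U)
    (hperf : ⁅K, K⁆ = K) (hKP : K ≤ centralizer (P : Set G))
    (hPU : P ≤ normalizer (U : Set G)) (hKU : K ≤ normalizer (U : Set G))
    (hC : K ≤ centralizer ((U ⊓ centralizer (P : Set G) : Subgroup G) : Set G)) :
    K ≤ centralizer (U : Set G) := by
  have hp : Group.IsPerfect K := Subgroup.isPerfect_iff.mpr hperf
  have htop : Cfsg.pResidual p K = ⊤ := by
    by_contra h
    have : Nontrivial (K ⧸ Cfsg.pResidual p K) := QuotientGroup.nontrivial_iff.mpr h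
    exact Group.IsPerfect.not_isNilpotent (K ⧸ Cfsg.pResidual p K)
      (CfsgLib.Transfer.isPGroup_quotient_pResidual (p := p) (G := K)).isNilpotent
  suffices h : (Cfsg.pResidual p K).map K.subtype ≤ centralizer (U : Set G) by
    rwa [htop, ← MonoidHom.range_eq_map, range_subtype] at h
  rw [map_le_iff_le_comap, Cfsg.pResidual, closure_le]
  intro x hx
  have hxK : zpowers (x : G) ≤ K := zpowers_le.mpr x.2
  have hcard : (Nat.card (zpowers (x : G))).Coprime p := by
    rw [Nat.card_zpowers, Subgroup.orderOf_coe]
    exact hx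
  exact CfsgLib.Coprime.le_centralizer_of_inf_centralizer_le hP hcard hU
    (le_centralizer_iff.mp (hxK.trans hKP)) hPU (hxK.trans hKU)
    (le_centralizer_iff.mp (hxK.trans hC)) (mem_zpowers (x : G))

theorem le_pCore_normalizer {P : Subgroup G} (hP : IsPGroup p P) :
    P ≤ (Cfsg.pCore p (normalizer (P : Set G))).map (normalizer (P : Set G)).subtype := by
  intro x hx
  exact ⟨⟨x, le_normalizer hx⟩, CfsgLib.PLocal.le_pCore
    (N := P.subgroupOf (normalizer (P : Set G)))
    (hP.of_equiv (Subgroup.subgroupOfEquivOfLe le_normalizer).symm) hx, rfl⟩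

theorem pPrimeCore_normalizer_le_centralizer_self {P : Subgroup G} (hP : IsPGroup p P) :
    (Cfsg.pPrimeCore p (normalizer (P : Set G))).map (normalizer (P : Set G)).subtype ≤
      centralizer (P : Set G) := by
  refine le_trans ?_ (centralizer_le (SetLike.coe_subset_coe.mpr (le_pCore_normalizer hP)))
  rw [← commutator_eq_bot_iff_le_centralizer, ← map_commutator,
    commutator_eq_bot_iff_le_centralizer.mpr
      (CfsgLib.PLocal.pPrimeCore_le_centralizer_pCore p _), Subgroup.map_bot]

omit [Finite G] [Fact p.Prime] in
theorem le_normalizer_map_subtype_of_normal (H : Subgroup G) (K : Subgroup H) [K.Normal] :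
    H ≤ normalizer ((K.map H.subtype : Subgroup G) : Set G) := by
  have h := le_normalizer_map (H := K) H.subtype
  rwa [normalizer_eq_top_iff.mpr inferInstance, ← MonoidHom.range_eq_map, range_subtype] at h

/-- `O_{p'}(N_G(P))` centralises every `p`-subgroup that it and `P` normalise. -/
theorem pPrimeCore_normalizer_le_centralizer {P U : Subgroup G} (hP : IsPGroup p P)
    (hU : IsPGroup p U) (hPU : P ≤ normalizer (U : Set G))
    (hRU : (Cfsg.pPrimeCore p (normalizer (P : Set G))).map (normalizer (P : Set G)).subtype ≤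
      normalizer (U : Set G)) :
    (Cfsg.pPrimeCore p (normalizer (P : Set G))).map (normalizer (P : Set G)).subtype ≤
      centralizer (U : Set G) :=
  le_centralizer_of_coprime hP
    (Nat.Coprime.coprime_dvd_left (card_map_dvd _ _) (CfsgLib.PLocal.coprime_card_pPrimeCore p _))
    hU (pPrimeCore_normalizer_le_centralizer_self hP) hPU hRU
    (inf_le_right.trans ((centralizer_le_normalizer _).trans
      (le_normalizer_map_subtype_of_normal _ _)))

theorem isComponent_normalizer_le_centralizer {P U : Subgroup G} (hP : IsPGroup p P)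
    (hU : IsPGroup p U) (hPU : P ≤ normalizer (U : Set G))
    {K : Subgroup (normalizer (P : Set G))} (hK : Cfsg.IsComponent K)
    (hKU : K.map (normalizer (P : Set G)).subtype ≤ normalizer (U : Set G)) :
    K.map (normalizer (P : Set G)).subtype ≤ centralizer (U : Set G) := by
  have hP' : IsPGroup p (P.subgroupOf (normalizer (P : Set G))) :=
    hP.of_equiv (Subgroup.subgroupOfEquivOfLe le_normalizer).symm
  have hKP : K.map (normalizer (P : Set G)).subtype ≤ centralizer (P : Set G) := by
    have h := IsComponent.commutator_eq_bot_of_isSolvable (H := P.subgroupOf (normalizer (P : Set G))) hK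
      (IsNilpotent.to_isSolvable (h := hP'.isNilpotent)) le_normalizer_of_normal
    have := congrArg (Subgroup.map (normalizer (P : Set G)).subtype) h
    rw [map_commutator, map_subgroupOf_eq_of_le le_normalizer, Subgroup.map_bot] at this
    exact commutator_eq_bot_iff_le_centralizer.mp this
  refine le_centralizer_of_perfect hP hU
    (by rw [← map_commutator, IsComponent.commutator_eq_self hK]) hKP hPU hKU ?_
  let W := (U ⊓ centralizer (P : Set G)).subgroupOf (normalizer (P : Set G))
  have hWle : U ⊓ centralizer (P : Set G) ≤ (normalizer (P : Set G)) := inf_le_right.trans (centralizer_le_normalizer _)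
  have hW : Group.IsSolvable W := by
    have : IsPGroup p W := (hU.to_le inf_le_left).of_equiv
      (Subgroup.subgroupOfEquivOfLe hWle).symm
    exact IsNilpotent.to_isSolvable (h := this.isNilpotent)
  have hKW : K ≤ normalizer (W : Set (normalizer (P : Set G))) := by
    refine le_trans ?_ (le_normalizer_comap (normalizer (P : Set G)).subtype)
    rw [← map_le_iff_le_comap]
    refine le_trans (le_inf hKU ?_) inf_normalizer_le_normalizer_inf
    exact hKP.trans le_normalizer
  have := congrArg (Subgroup.map (normalizer (P : Set G)).subtype)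
    (IsComponent.commutator_eq_bot_of_isSolvable hK hW hKW)
  rw [map_commutator, map_subgroupOf_eq_of_le hWle, Subgroup.map_bot] at this
  exact commutator_eq_bot_iff_le_centralizer.mp this

theorem layer_normalizer_le_centralizer {P U : Subgroup G} (hP : IsPGroup p P)
    (hU : IsPGroup p U) (hPU : P ≤ normalizer (U : Set G))
    (hEU : (Cfsg.layer (normalizer (P : Set G))).map (normalizer (P : Set G)).subtype ≤
      normalizer (U : Set G)) :
    (Cfsg.layer (normalizer (P : Set G))).map (normalizer (P : Set G)).subtype ≤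
      centralizer (U : Set G) := by
  rw [map_le_iff_le_comap]
  exact sSup_le fun K hK => map_le_iff_le_comap.mp
    (isComponent_normalizer_le_centralizer hP hU hPU hK
      ((map_mono (IsComponent.le_layer hK)).trans hEU))

/-- A `p`-component centralises every normal solvable subgroup meeting `O_{p'}` trivially. -/
theorem IsPComponent.commutator_eq_bot_of_normal {H : Type*} [Group H] [Finite H] {K : Subgroup H}
    (hK : Cfsg.IsPComponent p K) {W : Subgroup H} [W.Normal] (hW : IsPGroup p W) :
    ⁅K, W⁆ = ⊥ := by
  rw [eq_bot_iff, ← CfsgLib.PLocal.disjoint_of_isPGroup_of_coprime hW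
    (CfsgLib.PLocal.coprime_card_pPrimeCore p H)]
  refine le_inf (commutator_le_right K W) ?_
  rw [← QuotientGroup.ker_mk' (Cfsg.pPrimeCore p H), ← Subgroup.map_eq_bot_iff, map_commutator]
  have : (W.map (QuotientGroup.mk' (Cfsg.pPrimeCore p H))).Normal :=
    Normal.map inferInstance _ (QuotientGroup.mk'_surjective _)
  exact IsComponent.commutator_eq_bot_of_isSolvable hK.2.1
    (IsNilpotent.to_isSolvable (h := (hW.map _).isNilpotent)) le_normalizer_of_normal

/-- The `p`-layer of `N_G(P)` centralises every normal `p`-subgroup `U` of `G`. -/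
theorem pLayer_normalizer_le_centralizer {P U : Subgroup G} [U.Normal] (hP : IsPGroup p P)
    (hU : IsPGroup p U) :
    (Cfsg.pLayer p (normalizer (P : Set G))).map (normalizer (P : Set G)).subtype ≤
      centralizer (U : Set G) := by
  set N := normalizer (P : Set G)
  rw [map_le_iff_le_comap]
  refine sSup_le fun K hK => map_le_iff_le_comap.mp ?_
  have hKP : K.map N.subtype ≤ centralizer (P : Set G) := by
    have h := congrArg (Subgroup.map N.subtype) (IsPComponent.commutator_eq_bot_of_normal hK
      (W := P.subgroupOf N) (hP.of_equiv (Subgroup.subgroupOfEquivOfLe le_normalizer).symm))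
    rw [map_commutator, map_subgroupOf_eq_of_le le_normalizer, Subgroup.map_bot] at h
    exact commutator_eq_bot_iff_le_centralizer.mp h
  refine le_centralizer_of_perfect hP hU
    (by rw [← map_commutator, IsPComponent.commutator_eq_self hK]) hKP le_normalizer_of_normal
    le_normalizer_of_normal ?_
  have hle : U ⊓ N ≤ N := inf_le_right
  have hn : (U.subgroupOf N).Normal := Normal.subgroupOf inferInstance N
  have hn' : ((U ⊓ N).subgroupOf N).Normal := by rwa [inf_subgroupOf_right]
  have h := congrArg (Subgroup.map N.subtype) (IsPComponent.commutator_eq_bot_of_normal hK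
    (W := (U ⊓ N).subgroupOf N)
    ((hU.to_le inf_le_left).of_equiv (Subgroup.subgroupOfEquivOfLe hle).symm))
  rw [map_commutator, map_subgroupOf_eq_of_le hle, Subgroup.map_bot] at h
  exact (commutator_eq_bot_iff_le_centralizer.mp h).trans (centralizer_le
    (SetLike.coe_subset_coe.mpr (inf_le_inf_left U (centralizer_le_normalizer _))))

/-! ### Groups with `C(O_p) ≤ O_p` -/

theorem pPrimeCore_eq_bot_of_centralizer_pCore_le
    (h : centralizer (Cfsg.pCore p G : Set G) ≤ Cfsg.pCore p G) :
    Cfsg.pPrimeCore p G = ⊥ := by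
  rw [eq_bot_iff, ← CfsgLib.PLocal.pCore_inf_pPrimeCore p G]
  exact le_inf ((CfsgLib.PLocal.pPrimeCore_le_centralizer_pCore p G).trans h) le_rfl

/-- Balance in a group with `C(O_p(G)) ≤ O_p(G)`. -/
theorem eq_bot_of_centralizer_pCore_le
    (h : centralizer (Cfsg.pCore p G : Set G) ≤ Cfsg.pCore p G) {P R : Subgroup G}
    (hP : IsPGroup p P) (hR : (Nat.card R).Coprime p) (hRP : R ≤ centralizer (P : Set G))
    (hC : Cfsg.pCore p G ⊓ centralizer (P : Set G) ≤ normalizer (R : Set G)) : R = ⊥ := by
  rw [eq_bot_iff, ← CfsgLib.PLocal.disjoint_of_isPGroup_of_coprime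
    (isPGroup_pCore (G := G) p) hR]
  exact le_inf ((le_centralizer_of_coprime hP hR (isPGroup_pCore p) hRP le_normalizer_of_normal
    le_normalizer_of_normal hC).trans h) le_rfl

/-- Balance in a `p`-constrained group: a `p'`-subgroup of `C_G(P)` normalised by `C_G(P)` lies
in `O_{p'}(G)`. -/
theorem le_pPrimeCore_of_le_centralizer
    (h : centralizer (Cfsg.pCore p (G ⧸ Cfsg.pPrimeCore p G) : Set (G ⧸ Cfsg.pPrimeCore p G)) ≤
      Cfsg.pCore p (G ⧸ Cfsg.pPrimeCore p G)) {P R : Subgroup G}
    (hP : IsPGroup p P) (hR : (Nat.card R).Coprime p) (hRP : R ≤ centralizer (P : Set G))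
    (hC : centralizer (P : Set G) ≤ normalizer (R : Set G)) : R ≤ Cfsg.pPrimeCore p G := by
  rw [← QuotientGroup.ker_mk' (Cfsg.pPrimeCore p G), ← Subgroup.map_eq_bot_iff]
  have hcp := CfsgLib.PLocal.centralizer_map_mk'_eq (Cfsg.pPrimeCore p G)
    (CfsgLib.PLocal.coprime_card_pPrimeCore p G) hP
  refine eq_bot_of_centralizer_pCore_le h (hP.map (QuotientGroup.mk' (Cfsg.pPrimeCore p G)))
    (Nat.Coprime.coprime_dvd_left (card_map_dvd _ _) hR) ?_ ?_
  · rw [hcp]; exact map_mono hRP
  · rw [hcp]
    exact inf_le_right.trans ((map_mono hC).trans (le_normalizer_map _))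

/-- `F*(G) = O_p(G)` implies `C(O_p(G)) ≤ O_p(G)`. -/
theorem centralizer_pCore_le_of_generalizedFitting_eq
    (h : Cfsg.generalizedFittingSubgroup G = Cfsg.pCore p G) :
    centralizer (Cfsg.pCore p G : Set G) ≤ Cfsg.pCore p G := by
  have := centralizer_generalizedFitting_le_self (G := G)
  rwa [h] at this

omit [Fact p.Prime] in
/-- No component centralises `O_p` when `C(O_p) ≤ O_p`; more generally none lies in a
`p`-subgroup. -/
theorem layer_eq_bot_of_map_le_of_isPGroup {H : Subgroup G} {U : Subgroup G} [Fact p.Prime]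
    (hU : IsPGroup p U) (h : (Cfsg.layer H).map H.subtype ≤ U) : Cfsg.layer H = ⊥ := by
  refine layer_eq_bot_iff.mpr fun K hK => IsComponent.not_isSolvable hK ?_
  have h1 : IsPGroup p ((Cfsg.layer H).map H.subtype : Subgroup G) := hU.to_le h
  have h2 : IsPGroup p (Cfsg.layer H) :=
    h1.of_equiv ((Cfsg.layer H).equivMapOfInjective H.subtype H.subtype_injective).symm
  exact IsNilpotent.to_isSolvable (h := (h2.to_le (IsComponent.le_layer hK)).isNilpotent)

/-- If `G` has `C(O_p) ≤ O_p` then so has every `p`-local subgroup, in the form `F* = O_p`. -/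
theorem generalizedFitting_normalizer_eq_pCore
    (h : centralizer (Cfsg.pCore p G : Set G) ≤ Cfsg.pCore p G) {P : Subgroup G}
    (hP : IsPGroup p P) :
    Cfsg.generalizedFittingSubgroup (normalizer (P : Set G)) =
      Cfsg.pCore p (normalizer (P : Set G)) := by
  refine generalizedFitting_eq_pCore p ?_ fun N hN hNp => ?_
  · exact layer_eq_bot_of_map_le_of_isPGroup (isPGroup_pCore p)
      ((layer_normalizer_le_centralizer hP (isPGroup_pCore p) le_normalizer_of_normal
        le_normalizer_of_normal).trans h)
  · have hle := CfsgLib.PLocal.le_pPrimeCore (N := N) hNp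
    rw [← Subgroup.map_eq_bot_iff_of_injective _ (normalizer (P : Set G)).subtype_injective]
    rw [eq_bot_iff]
    refine (map_mono hle).trans ?_
    rw [le_bot_iff]
    exact eq_bot_of_centralizer_pCore_le h hP
      (Nat.Coprime.coprime_dvd_left (card_map_dvd _ _) (CfsgLib.PLocal.coprime_card_pPrimeCore p _))
      (pPrimeCore_normalizer_le_centralizer_self hP)
      (inf_le_right.trans ((centralizer_le_normalizer _).trans
        (le_normalizer_map_subtype_of_normal _ _)))

/-- A group with trivial `p`-layer is `p`-constrained, in quotient form. -/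
theorem centralizer_pCore_quotient_le_of_pLayer_eq_bot (hL : Cfsg.pLayer p G = ⊥) :
    centralizer (Cfsg.pCore p (G ⧸ Cfsg.pPrimeCore p G) : Set (G ⧸ Cfsg.pPrimeCore p G)) ≤
      Cfsg.pCore p (G ⧸ Cfsg.pPrimeCore p G) := by
  refine centralizer_pCore_le_of_generalizedFitting_eq (generalizedFitting_eq_pCore p
    (pLayer_eq_bot_iff.mp hL) fun N hN hNp => ?_)
  rw [eq_bot_iff, ← CfsgLib.PLocal.pPrimeCore_quotient_pPrimeCore_eq_bot p G]
  exact CfsgLib.PLocal.le_pPrimeCore hNp

end CfsgLib.Components
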