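import Cfsg.Agent.Balance.Local
import Cfsg.Agent.Components.PLocal

/-!
# `O_{p'}` of centralisers and components

* `pLayer_map_le_normalizer_component`: the `p`-layer of `N(R)` normalises the components
* `coreIn_le_centralizer_component`: a component `L` with `[L, x] ≠ L` is centralised by `O_{p'}(C(x))`
* `coreIn_eq_bot_of_forall`: `O_{p'}(C(x)) = 1` when it centralises every component
-/

namespace CfsgLib.Components

open Subgroup
open scoped commutatorElement
open CfsgLib.Balance (coreIn layerFix)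

variable {X : Type*} [Group X] [Finite X] {p : ℕ} [Fact p.Prime]

omit [Finite X] [Fact p.Prime] in
theorem le_normalizer_iff_map_conj {H : Subgroup X} {g : X} :
    g ∈ normalizer (H : Set X) ↔ H.map (MulAut.conj g).toMonoidHom = H :=
  mem_normalizer_iff_map_conj_eq

omit [Finite X] [Fact p.Prime] in
/-- A perfect subgroup centralising a set modulo its own centraliser centralises it. -/
theorem commutator_eq_bot_of_commutator_le_centralizer {L R : Subgroup X} (hL : ⁅L, L⁆ = L)
    (h : ⁅L, R⁆ ≤ centralizer (L : Set X)) : ⁅L, R⁆ = ⊥ := by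
  have h2 : ⁅⁅L, R⁆, L⁆ = ⊥ := commutator_eq_bot_iff_le_centralizer.mpr h
  have h3 : ⁅⁅R, L⁆, L⁆ = ⊥ := by rwa [commutator_comm R L]
  have h4 := commutator_commutator_eq_bot_of_rotate h2 h3
  rwa [hL] at h4

theorem pLayer_map_le_normalizer_component (hX : Cfsg.pPrimeCore p X = ⊥) {R : Subgroup X}
    (hR : IsPGroup p R) {L : Subgroup X} (hL : Cfsg.IsComponent L) :
    (Cfsg.pLayer p (normalizer (R : Set X))).map (normalizer (R : Set X)).subtype ≤
      normalizer (L : Set X) := by
  set Y := normalizer (R : Set X)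
  have hCY : centralizer (R : Set X) ≤ Y := centralizer_le_normalizer _
  have hO := CfsgLib.Balance.coreIn_le_centralizer_of_le (p := p) hR le_normalizer (le_refl Y)
  rw [map_le_iff_le_comap]
  refine sSup_le fun K hK => map_le_iff_le_comap.mp ?_
  have hKR := CfsgLib.Balance.isPComponent_le_centralizer hR (le_refl Y) (Or.inl le_normalizer) hK
  have hKperf : ⁅K.map Y.subtype, K.map Y.subtype⁆ = K.map Y.subtype := by
    rw [← map_commutator, IsPComponent.commutator_eq_self hK]
  have hKC : K.map Y.subtype ≤ centralizer (Cfsg.pCore p X : Set X) :=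
    (map_mono (le_sSup (show K ∈ {J | Cfsg.IsPComponent p J} from hK))).trans
      (pLayer_normalizer_le_centralizer hR (isPGroup_pCore p))
  set W := ((Cfsg.layer X) ⊓ centralizer (R : Set X)).subgroupOf Y
  have hWn : W.Normal := by
    refine normal_subgroupOf_of_le_normalizer ((le_inf le_normalizer_of_normal ?_).trans
      inf_normalizer_le_normalizer_inf)
    exact CfsgLib.Balance.map_subtype_le_normalizer_centralizer (le_refl Y)
  have hWq : (W.map (QuotientGroup.mk' (Cfsg.pPrimeCore p Y))).Normal :=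
    Normal.map hWn _ (QuotientGroup.mk'_surjective _)
  rcases IsComponent.le_or_commutator_eq_bot_of_normal hK.2.1
    (W.map (QuotientGroup.mk' (Cfsg.pPrimeCore p Y))) with h | h
  · rw [map_le_iff_le_comap, comap_map_eq, QuotientGroup.ker_mk'] at h
    have h' := pElems_le_of_isSubnormal hWn.isSubnormal (CfsgLib.PLocal.coprime_card_pPrimeCore p Y) h
    rw [IsPComponent.pElems_eq_self hK] at h'
    refine le_trans ?_ (IsComponent.normalized_by_layer hL)
    rintro _ ⟨x, hx, rfl⟩
    exact (mem_inf.mp (mem_subgroupOf.mp (h' hx))).1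
  · rw [← map_commutator, Subgroup.map_eq_bot_iff, QuotientGroup.ker_mk'] at h
    refine CfsgLib.Balance.le_normalizer_component hX (Y := Y) hR hKR
      (CfsgLib.Balance.perfect_le_closure_coprime hKperf) ?_ hL
    intro d hd z hz
    refine CfsgLib.Balance.commutator_mem_coreIn hR hCY (le_refl Y) hO hKR hKperf hKC
      (inferInstance : (Cfsg.layer X).Normal) ?_ hd hz hz.1
    have hle : Cfsg.layer X ⊓ centralizer (R : Set X) ≤ Y := inf_le_right.trans hCY
    have := map_mono (f := Y.subtype) h
    rwa [map_commutator, map_subgroupOf_eq_of_le hle] at this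

/-! ### Elements of order `p` acting on components -/

/-- The product `l · xlx⁻¹ ⋯ x^(k-1) l x^(1-k)`. -/
def orbitProd (x l : X) : ℕ → X
  | 0 => 1
  | k + 1 => orbitProd x l k * (x ^ k * l * (x ^ k)⁻¹)

omit [Finite X] [Fact p.Prime] in
theorem orbitProd_succ (x l : X) (k : ℕ) :
    orbitProd x l (k + 1) = orbitProd x l k * (x ^ k * l * (x ^ k)⁻¹) := rfl

omit [Finite X] [Fact p.Prime] in
theorem orbitProd_succ' (x l : X) (k : ℕ) :
    orbitProd x l (k + 1) = l * (x * orbitProd x l k * x⁻¹) := by
  induction k with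
  | zero => simp [orbitProd]
  | succ k ih =>
    rw [orbitProd_succ x l (k + 1)]
    conv_lhs => rw [ih]
    rw [orbitProd_succ, pow_succ']
    group

omit [Finite X] [Fact p.Prime] in
theorem orbitProd_conj {x r : X} (hxr : Commute r x) (l : X) (k : ℕ) :
    r * orbitProd x l k * r⁻¹ = orbitProd x (r * l * r⁻¹) k := by
  induction k with
  | zero => simp [orbitProd]
  | succ k ih =>
    have hk : r * x ^ k = x ^ k * r := (hxr.pow_right k).eq
    rw [orbitProd_succ, orbitProd_succ, ← ih, show r * (orbitProd x l k * (x ^ k * l * (x ^ k)⁻¹)) * r⁻¹ =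
      r * orbitProd x l k * r⁻¹ * ((r * x ^ k) * l * (r * x ^ k)⁻¹) by group, hk]
    group

section Orbit

variable {L : Subgroup X} {x : X} {N : ℕ}

/-- The conjugates of `L` by distinct small powers of `x` commute elementwise. -/
def OrbitCommutes (L : Subgroup X) (x : X) (N : ℕ) : Prop :=
  ∀ i < N, ∀ j < N, i ≠ j → ∀ a ∈ L, ∀ b ∈ L,
    Commute (x ^ i * a * (x ^ i)⁻¹) (x ^ j * b * (x ^ j)⁻¹)

omit [Finite X] [Fact p.Prime] in
theorem orbitProd_commute (h : OrbitCommutes L x N) {l b : X} (hl : l ∈ L) (hb : b ∈ L) {j k : ℕ}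
    (hkj : k ≤ j) (hjN : j < N) : Commute (orbitProd x l k) (x ^ j * b * (x ^ j)⁻¹) := by
  induction k with
  | zero => exact Commute.one_left _
  | succ k ih => exact (ih (by omega)).mul_left (h k (by omega) j hjN (by omega) l hl b hb)

omit [Finite X] [Fact p.Prime] in
theorem orbitProd_mul (h : OrbitCommutes L x N) {l m : X} (hl : l ∈ L) (hm : m ∈ L) {k : ℕ}
    (hk : k ≤ N) : orbitProd x (l * m) k = orbitProd x l k * orbitProd x m k := by
  induction k with
  | zero => simp [orbitProd]
  | succ k ih =>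
    have hc := orbitProd_commute h hm hl (le_refl k) (by omega)
    rw [orbitProd_succ, ih (by omega), orbitProd_succ, orbitProd_succ,
      show x ^ k * (l * m) * (x ^ k)⁻¹ = (x ^ k * l * (x ^ k)⁻¹) * (x ^ k * m * (x ^ k)⁻¹) by group,
      hc.mul_mul_mul_comm]

omit [Finite X] [Fact p.Prime] in
theorem commute_conj_orbitProd (h : OrbitCommutes L x (N + 1)) {l b : X} (hl : l ∈ L)
    (hb : b ∈ L) {k : ℕ} (hk : k ≤ N) : Commute b (x * orbitProd x l k * x⁻¹) := by
  induction k with
  | zero => simp [orbitProd]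
  | succ k ih =>
    rw [orbitProd_succ, show x * (orbitProd x l k * (x ^ k * l * (x ^ k)⁻¹)) * x⁻¹ =
      (x * orbitProd x l k * x⁻¹) * (x ^ (k + 1) * l * (x ^ (k + 1))⁻¹) by rw [pow_succ']; group]
    refine (ih (by omega)).mul_right ?_
    simpa using h 0 (by omega) (k + 1) (by omega) (by omega) b hb l hl

omit [Finite X] [Fact p.Prime] in
theorem orbitProd_commute_self (h : OrbitCommutes L x (N + 1)) (hx : x ^ (N + 1) = 1) {l : X}
    (hl : l ∈ L) : x * orbitProd x l (N + 1) * x⁻¹ = orbitProd x l (N + 1) := by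
  have hc := commute_conj_orbitProd h hl hl (le_refl N)
  rw [orbitProd_succ, show x * (orbitProd x l N * (x ^ N * l * (x ^ N)⁻¹)) * x⁻¹ =
    (x * orbitProd x l N * x⁻¹) * (x ^ (N + 1) * l * (x ^ (N + 1))⁻¹) by rw [pow_succ']; group,
    hx, one_mul, inv_one, mul_one, ← hc.eq, ← orbitProd_succ', orbitProd_succ]

end Orbit

theorem exists_pElem_not_centralizing (hX : Cfsg.pPrimeCore p X = ⊥) {L : Subgroup X}
    (hL : Cfsg.IsComponent L) :
    ∃ m ∈ L, (∃ k : ℕ, m ^ p ^ k = 1) ∧ m ∉ centralizer (L : Set X) := by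
  by_contra! h
  refine IsComponent.not_commute hL (commutator_eq_bot_iff_le_centralizer.mpr ?_)
  refine (pElems_eq_self_of_isQuasisimple hL.2
    (CfsgLib.Balance.dvd_card_component hX hL)).ge.trans ((closure_le _).mpr ?_)
  rintro m ⟨hm, k, hk⟩
  exact h m hm ⟨k, hk⟩

/-- If `[L, x] ≠ L` then `O_{p'}(C(x))` centralises the component `L`. -/
theorem coreIn_le_centralizer_component (hX : Cfsg.pPrimeCore p X = ⊥) {x : X}
    (hx : orderOf x = p) {L : Subgroup X} (hL : Cfsg.IsComponent L) (hne : ⁅L, zpowers x⁆ ≠ L) :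
    coreIn p (centralizer ({x} : Set X)) ≤ centralizer (L : Set X) := by
  set Y := centralizer ({x} : Set X)
  have hCR : centralizer ((zpowers x : Subgroup X) : Set X) = Y := by
    rw [zpowers_eq_closure, centralizer_closure]
  have hp1 : x ^ p = 1 := hx ▸ pow_orderOf_eq_one x
  have hR : IsPGroup p (zpowers x) := IsPGroup.of_card (n := 1) (by rw [Nat.card_zpowers, hx, pow_one])
  have hYN : Y ≤ normalizer ((zpowers x : Subgroup X) : Set X) :=
    hCR.ge.trans (centralizer_le_normalizer _)
  have hO : coreIn p Y ≤ centralizer ((zpowers x : Subgroup X) : Set X) :=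
    (CfsgLib.Balance.coreIn_le Y).trans hCR.ge
  by_cases hxL : x ∈ normalizer (L : Set X)
  · have hle : ⁅L, zpowers x⁆ ≤ L :=
      le_normalizer_iff_commutator_le_left.mp (zpowers_le.mpr hxL)
    have : (⁅L, zpowers x⁆.subgroupOf L).Normal :=
      normal_subgroupOf_of_le_normalizer (normalizer_commutator_ge_left L _)
    rcases IsQuasisimple.normal_eq_top_or_le_center hL.2 (⁅L, zpowers x⁆.subgroupOf L) with h | h
    · exact absurd (le_antisymm hle (subgroupOf_eq_top.mp h)) hne
    have hLx : ⁅L, zpowers x⁆ = ⊥ := commutator_eq_bot_of_commutator_le_centralizer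
      (IsComponent.commutator_eq_self hL) fun c hc => mem_centralizer_iff.mpr fun l hl =>
        congrArg Subtype.val
          (mem_center_iff.mp (h (show (⟨c, hle hc⟩ : L) ∈ _ from hc)) ⟨l, hl⟩)
    have hLY : L ≤ Y := hCR ▸ commutator_eq_bot_iff_le_centralizer.mp hLx
    refine le_centralizer_iff.mp (commutator_eq_bot_iff_le_centralizer.mp
      ((IsComponent.le_or_commutator_eq_bot_of_le_normalizer hL hLY
        (CfsgLib.Balance.coreIn_le Y) (CfsgLib.Balance.le_normalizer_coreIn Y)).resolve_left
          fun h' => ?_))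
    exact (Fact.out : p.Prime).ne_one ((Nat.Coprime.coprime_dvd_left
      ((CfsgLib.Balance.dvd_card_component hX hL).trans (card_dvd_of_le h'))
      (CfsgLib.Balance.coprime_coreIn Y)) |> (Nat.coprime_self p).mp)
  intro r hr
  have hrN : r ∈ normalizer (L : Set X) :=
    CfsgLib.Balance.coreIn_le_normalizer_component hX hR hCR.le hYN hO hL hr
  have hrx : Commute r x := mem_centralizer_singleton_iff.mp (CfsgLib.Balance.coreIn_le Y hr)
  obtain ⟨n, hn⟩ : ∃ n, p = n + 1 := ⟨p - 1, by have := (Fact.out : p.Prime).pos; omega⟩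
  have horb : OrbitCommutes L x (n + 1) := by
    intro i hi j hj hij a ha b hb
    have hdist : L.map (MulAut.conj (x ^ i)).toMonoidHom ≠ L.map (MulAut.conj (x ^ j)).toMonoidHom := by
      intro e
      have hz : x ^ ((i : ℤ) - j) ∈ normalizer (L : Set X) := by
        rw [zpow_sub, zpow_natCast, zpow_natCast]
        refine le_normalizer_iff_map_conj.mpr ?_
        have e' := congrArg (Subgroup.map (MulAut.conj (x ^ j)⁻¹).toMonoidHom) e
        rw [map_map, map_map] at e'
        have e1 : (MulAut.conj (x ^ j)⁻¹).toMonoidHom.comp (MulAut.conj (x ^ i)).toMonoidHom =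
            (MulAut.conj (x ^ i * (x ^ j)⁻¹)).toMonoidHom := by
          rw [← (Commute.pow_pow_self x i j).inv_right.eq.symm]
          ext y; simp [mul_assoc]
        have e2 : (MulAut.conj (x ^ j)⁻¹).toMonoidHom.comp (MulAut.conj (x ^ j)).toMonoidHom =
            MonoidHom.id X := by
          ext y; simp [mul_assoc]
        rw [e1, e2, Subgroup.map_id] at e'
        exact e'
      have hz1 : x ^ ((i : ℤ) - j) ≠ 1 := by
        intro h1
        obtain ⟨c, hc⟩ := orderOf_dvd_iff_zpow_eq_one.mpr h1
        rw [hx, hn] at hc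
        push_cast at hc
        rcases lt_trichotomy c 0 with h2 | h2 | h2
        · nlinarith
        · subst h2; omega
        · nlinarith
      refine hxL ?_
      have hmem : x ∈ zpowers (x ^ ((i : ℤ) - j)) := by
        have hle : zpowers (x ^ ((i : ℤ) - j)) ≤ zpowers x :=
          zpowers_le.mpr (zpow_mem (mem_zpowers x) _)
        rcases (Nat.dvd_prime (Fact.out : p.Prime)).mp
          (hx ▸ Nat.card_zpowers x ▸ card_dvd_of_le hle) with h3 | h3
        · exact absurd (zpowers_eq_bot.mp (Subgroup.card_eq_one.mp h3)) hz1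
        · exact (eq_of_le_of_card_ge hle (by rw [h3, Nat.card_zpowers, hx])).ge (mem_zpowers x)
      exact zpowers_le.mpr hz hmem
    have hc := commutator_eq_bot_iff_le_centralizer.mp
      (IsComponent.commutator_eq_bot_of_ne (IsComponent.conj hL _) (IsComponent.conj hL _) hdist)
    exact (mem_centralizer_iff.mp (hc ⟨a, ha, rfl⟩) _ ⟨b, hb, rfl⟩).symm
  have hxn : x ^ (n + 1) = 1 := hn ▸ hp1
  have hone : orbitProd x 1 (n + 1) = 1 := by
    have h := orbitProd_mul horb (one_mem L) (one_mem L) (le_refl (n + 1))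
    rw [one_mul] at h
    exact left_eq_mul.mp h
  let d : L →* X := MonoidHom.mk' (fun l => orbitProd x (l : X) (n + 1))
    fun l m => orbitProd_mul horb l.2 m.2 (le_refl _)
  have hdY : ∀ l : L, d l ∈ Y := fun l => mem_centralizer_singleton_iff.mpr
    (mul_inv_eq_iff_eq_mul.mp (orbitProd_commute_self horb hxn l.2)).symm
  have hker : ∀ l : L, d l = 1 → (l : X) ∈ centralizer (L : Set X) := by
    intro l h
    change orbitProd x (l : X) (n + 1) = 1 at h
    rw [orbitProd_succ'] at h
    refine mem_centralizer_iff.mpr fun b hb => ?_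
    have hc := commute_conj_orbitProd horb l.2 hb (le_refl n)
    rw [show (l : X) = (x * orbitProd x (l : X) n * x⁻¹)⁻¹ from eq_inv_of_mul_eq_one_left h]
    exact hc.inv_right.eq
  let S : Subgroup L := (coreIn p Y).comap d
  have hSn : S.Normal := ⟨fun m hm l => by
    simp only [S, mem_comap, map_mul, map_inv] at hm ⊢
    exact CfsgLib.Balance.coreIn_conj_mem (hdY l) hm⟩
  rcases IsQuasisimple.normal_eq_top_or_le_center hL.2 S with h | h
  · exfalso
    obtain ⟨m, hm, ⟨k, hk⟩, hmc⟩ := exists_pElem_not_centralizing hX hL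
    have hmS : d ⟨m, hm⟩ ∈ coreIn p Y := by
      have : (⟨m, hm⟩ : L) ∈ S := h ▸ mem_top _
      exact this
    refine hmc (hker ⟨m, hm⟩ (CfsgLib.Balance.eq_one_of_mem_coreIn hmS (k := k) ?_))
    rw [← map_pow, show (⟨m, hm⟩ : L) ^ p ^ k = 1 from Subtype.ext hk, map_one]
  · have hcomm : ⁅L, zpowers r⁆ ≤ centralizer (L : Set X) := by
      refine commutator_le.mpr ?_
      intro l hl s hs
      have hsN : s ∈ normalizer (L : Set X) := zpowers_le.mpr hrN hs
      have hsR : s ∈ coreIn p Y := zpowers_le.mpr hr hs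
      have hsx : Commute s x := mem_centralizer_singleton_iff.mp (CfsgLib.Balance.coreIn_le Y hsR)
      have hmem : s * l⁻¹ * s⁻¹ ∈ L := (mem_normalizer_iff.mp hsN _).mp (inv_mem hl)
      rw [show ⁅l, s⁆ = l * (s * l⁻¹ * s⁻¹) by rw [commutatorElement_def]; group]
      refine mem_centralizer_iff.mpr fun b hb => ?_
      have hS : (⟨l * (s * l⁻¹ * s⁻¹), mul_mem hl hmem⟩ : L) ∈ S := by
        show orbitProd x (l * (s * l⁻¹ * s⁻¹)) (n + 1) ∈ coreIn p Y
        rw [orbitProd_mul horb hl hmem (le_refl _), ← orbitProd_conj hsx,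
          show orbitProd x l⁻¹ (n + 1) = (orbitProd x l (n + 1))⁻¹ from map_inv d ⟨l, hl⟩,
          show orbitProd x l (n + 1) * (s * (orbitProd x l (n + 1))⁻¹ * s⁻¹) =
            (orbitProd x l (n + 1) * s * (orbitProd x l (n + 1))⁻¹) * s⁻¹ by group]
        exact mul_mem (CfsgLib.Balance.coreIn_conj_mem (hdY ⟨l, hl⟩) hsR) (inv_mem hsR)
      exact congrArg Subtype.val (mem_center_iff.mp (h hS) ⟨b, hb⟩)
    exact le_centralizer_iff.mp (commutator_eq_bot_iff_le_centralizer.mp
      (commutator_eq_bot_of_commutator_le_centralizer (IsComponent.commutator_eq_self hL) hcomm))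
      (mem_zpowers r)

/-- `O_{p'}(C(R))` is trivial when it centralises every component. -/
theorem coreIn_eq_bot_of_forall (hX : Cfsg.pPrimeCore p X = ⊥) {R Y : Subgroup X}
    (hR : IsPGroup p R) (hCY : centralizer (R : Set X) ≤ Y)
    (hO : coreIn p Y ≤ centralizer (R : Set X))
    (h : ∀ L : Subgroup X, Cfsg.IsComponent L → coreIn p Y ≤ centralizer (L : Set X)) :
    coreIn p Y = ⊥ := by
  have hU := CfsgLib.Balance.coreIn_le_centralizer_pCore hR hCY hO
  have hE : coreIn p Y ≤ centralizer (Cfsg.layer X : Set X) :=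
    le_centralizer_iff.mp (sSup_le fun L hL => le_centralizer_iff.mp (h L hL))
  have hF : coreIn p Y ≤ centralizer (Cfsg.generalizedFittingSubgroup X : Set X) := by
    rw [Cfsg.generalizedFittingSubgroup, CfsgLib.Balance.fittingSubgroup_eq_pCore hX]
    exact le_centralizer_iff.mp (sup_le (le_centralizer_iff.mp hE) (le_centralizer_iff.mp hU))
  have hle := hF.trans centralizer_generalizedFitting_le
  rw [CfsgLib.Balance.fittingSubgroup_eq_pCore hX] at hle
  exact CfsgLib.PLocal.eq_bot_of_isPGroup_of_coprime ((isPGroup_pCore p).to_le hle)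
    (CfsgLib.Balance.coprime_coreIn Y)

end CfsgLib.Components
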